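import Cfsg.Agent.Chars.Construct
import Cfsg.Agent.Chars.Indicator

/-!
# The alternating square of a character
-/

set_option autoImplicit false

namespace Cfsg.Lib.PermGroups.PrimeExceptional

open Matrix Cfsg.Lib.Chars

universe u

variable {G : Type u} [Group G] {d : ℕ}

theorem trace_eq_sum_single (L : Matrix (Fin d) (Fin d) ℂ →ₗ[ℂ] Matrix (Fin d) (Fin d) ℂ) :
    LinearMap.trace ℂ _ L = ∑ i, ∑ j, L (Matrix.single i j 1) i j := by
  classical
  rw [LinearMap.trace_eq_matrix_trace ℂ (Matrix.stdBasis ℂ (Fin d) (Fin d)), Matrix.trace,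
    Fintype.sum_prod_type]
  refine Finset.sum_congr rfl fun i _ => Finset.sum_congr rfl fun j _ => ?_
  rw [Matrix.diag_apply, LinearMap.toMatrix_apply, Matrix.stdBasis_eq_single]
  rfl

/-- Congruence action on matrices. -/
noncomputable def congrRep (A : G →* Matrix (Fin d) (Fin d) ℂ) :
    Representation ℂ G (Matrix (Fin d) (Fin d) ℂ) where
  toFun g :=
    { toFun := fun M => A g * M * (A g)ᵀ
      map_add' := fun M N => by rw [Matrix.mul_add, Matrix.add_mul]
      map_smul' := fun c M => by simp }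
  map_one' := by ext M : 1; simp
  map_mul' g h := by ext M : 1; simp [Matrix.transpose_mul, Matrix.mul_assoc]

/-- The skew matrices. -/
def skewMat (d : ℕ) : Submodule ℂ (Matrix (Fin d) (Fin d) ℂ) where
  carrier := {M | Mᵀ = -M}
  add_mem' {M N} hM hN := by
    show (M + N)ᵀ = -(M + N)
    rw [Matrix.transpose_add, show Mᵀ = -M from hM, show Nᵀ = -N from hN, neg_add]
  zero_mem' := by
    show (0 : Matrix (Fin d) (Fin d) ℂ)ᵀ = -0
    simp
  smul_mem' c M hM := by
    show (c • M)ᵀ = -(c • M)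
    rw [Matrix.transpose_smul, show Mᵀ = -M from hM, smul_neg]

theorem congrRep_mem (A : G →* Matrix (Fin d) (Fin d) ℂ) (g : G) {M : Matrix (Fin d) (Fin d) ℂ}
    (hM : M ∈ skewMat d) : congrRep A g M ∈ skewMat d := by
  show (A g * M * (A g)ᵀ)ᵀ = -(A g * M * (A g)ᵀ)
  rw [Matrix.transpose_mul, Matrix.transpose_mul, Matrix.transpose_transpose,
    show Mᵀ = -M from hM, Matrix.neg_mul, Matrix.mul_neg, Matrix.mul_assoc]

/-- The representation on skew matrices. -/
noncomputable def skewRep (A : G →* Matrix (Fin d) (Fin d) ℂ) : Representation ℂ G (skewMat d) where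
  toFun g := (congrRep A g).restrict fun _ hM => congrRep_mem A g hM
  map_one' := by
    ext M : 1
    apply Subtype.ext
    show congrRep A 1 M.1 = M.1
    rw [map_one]; rfl
  map_mul' g h := by
    ext M : 1
    apply Subtype.ext
    show congrRep A (g * h) M.1 = congrRep A g (congrRep A h M.1)
    rw [map_mul]; rfl

theorem character_skewRep (A : G →* Matrix (Fin d) (Fin d) ℂ) (g : G) :
    (skewRep A).character g = ((A g).trace * (A g).trace - (A (g * g)).trace) / 2 := by
  classical
  let τ : Matrix (Fin d) (Fin d) ℂ →ₗ[ℂ] Matrix (Fin d) (Fin d) ℂ :=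
    (Matrix.transposeLinearEquiv (Fin d) (Fin d) ℂ ℂ).toLinearMap
  let Pr : Matrix (Fin d) (Fin d) ℂ →ₗ[ℂ] Matrix (Fin d) (Fin d) ℂ :=
    (2 : ℂ)⁻¹ • (LinearMap.id - τ)
  have hPr : ∀ M, Pr M ∈ skewMat d := fun M => by
    show ((2 : ℂ)⁻¹ • (M - Mᵀ))ᵀ = -((2 : ℂ)⁻¹ • (M - Mᵀ))
    rw [Matrix.transpose_smul, Matrix.transpose_sub, Matrix.transpose_transpose, ← smul_neg, neg_sub]
  have hfix : ∀ M ∈ skewMat d, Pr M = M := fun M hM => by
    show (2 : ℂ)⁻¹ • (M - Mᵀ) = M
    rw [show Mᵀ = -M from hM, sub_neg_eq_add, ← two_smul ℂ, smul_smul,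
      inv_mul_cancel₀ two_ne_zero, one_smul]
  have hmem : ∀ M, (congrRep A g ∘ₗ Pr) M ∈ skewMat d := fun M => congrRep_mem A g (hPr M)
  have h1 : (skewRep A g : skewMat d →ₗ[ℂ] skewMat d) =
      (congrRep A g ∘ₗ Pr).restrict fun M _ => hmem M := by
    ext M : 1
    apply Subtype.ext
    show congrRep A g M.1 = congrRep A g (Pr M.1)
    rw [hfix M.1 M.2]
  rw [Representation.character, h1, LinearMap.trace_restrict_eq_of_forall_mem _ _ hmem]
  show LinearMap.trace ℂ _ (congrRep A g ∘ₗ ((2 : ℂ)⁻¹ • (LinearMap.id - τ))) = _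
  rw [LinearMap.comp_smul, LinearMap.comp_sub, LinearMap.comp_id, map_smul, map_sub,
    trace_eq_sum_single, trace_eq_sum_single, smul_eq_mul]
  have e1 : ∑ i, ∑ j, congrRep A g (Matrix.single i j 1) i j = (A g).trace * (A g).trace := by
    rw [Matrix.trace, Finset.sum_mul_sum]
    refine Finset.sum_congr rfl fun i _ => Finset.sum_congr rfl fun j _ => ?_
    show (A g * (Matrix.single i j (1 : ℂ) : Matrix (Fin d) (Fin d) ℂ) * (A g)ᵀ : Matrix (Fin d) (Fin d) ℂ) i j = _
    simp [Matrix.mul_apply, Matrix.single_apply, ite_and]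
  have e2 : ∑ i, ∑ j, (congrRep A g ∘ₗ τ) (Matrix.single i j 1) i j = (A (g * g)).trace := by
    rw [map_mul, Matrix.trace]
    refine Finset.sum_congr rfl fun i _ => ?_
    rw [Matrix.diag_apply, Matrix.mul_apply]
    refine Finset.sum_congr rfl fun j _ => ?_
    show (A g * (Matrix.single i j (1 : ℂ) : Matrix (Fin d) (Fin d) ℂ)ᵀ * (A g)ᵀ : Matrix (Fin d) (Fin d) ℂ) i j = _
    simp [Matrix.mul_apply, Matrix.transpose_single, Matrix.single_apply, ite_and]
  rw [e1, e2]
  ring

/-- The alternating square of a character is a character. -/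
theorem isCharacter_altSquare {χ : G → ℂ} (h : Cfsg.IsCharacter G χ) :
    Cfsg.IsCharacter G (fun g => (χ g * χ g - χ (g * g)) / 2) := by
  obtain ⟨n, ρ, rfl⟩ := h
  have : (fun g => (ρ.character g * ρ.character g - ρ.character (g * g)) / 2) =
      (skewRep (matRep ρ)).character := by
    funext g
    rw [character_skewRep, character_matRep, character_matRep]
  rw [this]
  exact isCharacter_character _

end Cfsg.Lib.PermGroups.PrimeExceptional
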