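import Cfsg.Agent.Chars.Perm
import Cfsg.Agent.Chars.Induced
import Cfsg.Agent.PermGroups.PrimeExceptional.AltSquare
import Mathlib.GroupTheory.GroupAction.MultipleTransitivity
import Mathlib.Analysis.SpecialFunctions.Complex.CircleAddChar
import Mathlib.NumberTheory.LegendreSymbol.AddCharacter

/-!
# Doubly transitive groups of prime degree `p` with a Sylow normaliser of order `2 p`

The exceptional characters of degree `p - 2` and the alternating square of one of them show that
only the identity fixes three or more points.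
-/

set_option autoImplicit false
set_option linter.unusedSectionVars false

namespace Cfsg.Lib.PermGroups.PrimeExceptional

open Cfsg.Lib.Chars
open scoped ComplexConjugate Classical

universe u v

/-- A self-centralising subgroup of order `p` with normaliser of order `2 p`. -/
structure Setting (G : Type u) [Group G] (p : ℕ) where
  t : G
  order : orderOf t = p
  odd : 2 < p
  cent : ∀ g : G, Commute g t → g ∈ Subgroup.zpowers t
  normCard : Nat.card (Subgroup.normalizer ((Subgroup.zpowers t : Subgroup G) : Set G)) = 2 * p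

namespace Setting

variable {G : Type u} [Group G] [Fintype G] {p : ℕ} [Fact p.Prime] (h : Setting G p)

abbrev P : Subgroup G := Subgroup.zpowers h.t

abbrev N : Subgroup G := Subgroup.normalizer (h.P : Set G)

theorem card_P : Nat.card h.P = p := (Nat.card_zpowers _).trans h.order

theorem zpowers_eq {y : G} (hy : y ∈ h.P) (h1 : y ≠ 1) : Subgroup.zpowers y = h.P := by
  have hle : Subgroup.zpowers y ≤ h.P := Subgroup.zpowers_le.2 hy
  refine Subgroup.eq_of_le_of_card_ge hle ?_
  have hd := Subgroup.card_dvd_of_le hle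
  rw [h.card_P] at hd ⊢
  rcases (Fact.out : p.Prime).eq_one_or_self_of_dvd _ hd with e | e
  · exact absurd (Subgroup.zpowers_eq_bot.1 (Subgroup.eq_bot_of_card_eq _ e)) h1
  · omega

theorem orderOf_eq {y : G} (hy : y ∈ h.P) (h1 : y ≠ 1) : orderOf y = p := by
  rw [← Nat.card_zpowers, h.zpowers_eq hy h1, h.card_P]

theorem mul_self_ne_one {y : G} (hy : y ∈ h.P) (h1 : y ≠ 1) : y * y ≠ 1 := fun e => by
  have hd : orderOf y ∣ 2 := orderOf_dvd_of_pow_eq_one (by rw [pow_two, e])
  rw [h.orderOf_eq hy h1] at hd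
  have := Nat.le_of_dvd two_pos hd
  have := h.odd
  omega

theorem mem_of_commute {y g : G} (hy : y ∈ h.P) (h1 : y ≠ 1) (hc : Commute g y) : g ∈ h.P := by
  obtain ⟨k, hk⟩ : h.t ∈ Subgroup.zpowers y := h.zpowers_eq hy h1 ▸ Subgroup.mem_zpowers h.t
  exact h.cent g (hk ▸ hc.zpow_right k)

theorem mem_N {y g : G} (hy : y ∈ h.P) (h1 : y ≠ 1) (hc : g * y * g⁻¹ ∈ h.P) : g ∈ h.N := by
  refine Subgroup.mem_normalizer_iff.2 fun n => ?_
  constructor
  · intro hn
    obtain ⟨k, rfl⟩ : n ∈ Subgroup.zpowers y := h.zpowers_eq hy h1 ▸ hn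
    show g * y ^ k * g⁻¹ ∈ h.P
    rw [← conj_zpow]
    exact zpow_mem hc k
  · intro hn
    have h1' : g * y * g⁻¹ ≠ 1 := fun e => h1 (by simpa using conj_eq_one_iff.1 e)
    obtain ⟨k, hk⟩ : g * n * g⁻¹ ∈ Subgroup.zpowers (g * y * g⁻¹) := h.zpowers_eq hc h1' ▸ hn
    replace hk : (g * y * g⁻¹) ^ k = g * n * g⁻¹ := hk
    rw [conj_zpow] at hk
    rw [← mul_left_cancel (mul_right_cancel hk)]
    exact zpow_mem hy k

theorem conj_of_mem {x y : G} (hx : x ∈ h.P) (hy : y ∈ h.P) : x * y * x⁻¹ = y := by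
  obtain ⟨a, rfl⟩ := hx
  obtain ⟨b, rfl⟩ := hy
  show h.t ^ a * h.t ^ b * (h.t ^ a)⁻¹ = h.t ^ b
  group

theorem conj_eq_inv {x y : G} (hx : x ∈ h.N) (hxP : x ∉ h.P) (hy : y ∈ h.P) : x * y * x⁻¹ = y⁻¹ := by
  have hle : h.P ≤ h.N := Subgroup.le_normalizer
  have hidx : (h.P.subgroupOf h.N).index = 2 := by
    have h1 := (h.P.subgroupOf h.N).card_mul_index
    rw [Nat.card_congr (Subgroup.subgroupOfEquivOfLe hle).toEquiv, h.card_P,
      show Nat.card h.N = 2 * p from h.normCard, mul_comm 2 p] at h1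
    exact Nat.eq_of_mul_eq_mul_left (Fact.out : p.Prime).pos h1
  have hsq : x * x ∈ h.P := by
    have := Subgroup.sq_mem_of_index_two hidx (⟨x, hx⟩ : h.N)
    rw [Subgroup.mem_subgroupOf, pow_two] at this
    exact this
  have ha : x * y * x⁻¹ ∈ h.P := (Subgroup.mem_normalizer_iff.1 hx y).1 hy
  have hz : y * (x * y * x⁻¹) ∈ h.P := mul_mem hy ha
  by_contra hne
  have hz1 : y * (x * y * x⁻¹) ≠ 1 := fun e => hne (eq_inv_of_mul_eq_one_right e)
  refine hxP (h.mem_of_commute hz hz1 ?_)
  have h2 : x * x * y * (x * x)⁻¹ = y := h.conj_of_mem hsq hy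
  have h3 : y * (x * y * x⁻¹) = x * y * x⁻¹ * y := by
    obtain ⟨a, ha'⟩ := hy
    obtain ⟨b, hb'⟩ := ha
    rw [← hb', ← ha']
    show h.t ^ a * h.t ^ b = h.t ^ b * h.t ^ a
    rw [← zpow_add, ← zpow_add, add_comm]
  show x * (y * (x * y * x⁻¹)) = y * (x * y * x⁻¹) * x
  rw [h3]
  calc x * (x * y * x⁻¹ * y) = (x * x * y * (x * x)⁻¹) * (x * y) := by group
    _ = y * (x * y) := by rw [h2]
    _ = y * (x * y * x⁻¹) * x := by group
    _ = x * y * x⁻¹ * y * x := by rw [h3]

theorem sum_ite_mem (H : Subgroup G) (c : ℂ) :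
    ∑ x : G, (if x ∈ H then c else 0) = (Nat.card H : ℂ) * c := by
  rw [← Finset.sum_filter, Finset.sum_const, nsmul_eq_mul, Nat.card_eq_fintype_card,
    Fintype.card_subtype]

/-- An element conjugate to a nontrivial element of `P`. -/
def Sing (g : G) : Prop := g ≠ 1 ∧ ∃ x : G, x⁻¹ * g * x ∈ h.P

theorem indFun_nonsing (θ : h.P → ℂ) (hθ : θ 1 = 0) {g : G} (hg : ¬h.Sing g) :
    Cfsg.indFun h.P θ g = 0 := by
  by_cases h1 : g = 1
  · rw [h1, indFun_one, hθ, mul_zero]
  · exact indFun_eq_zero_of_forall _ _ _ fun x hx => hg ⟨h1, x, hx⟩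

theorem indFun_mem (θ : h.P → ℂ) {y : h.P} (h1 : (y : G) ≠ 1) :
    Cfsg.indFun h.P θ y = θ y + θ y⁻¹ := by
  have hterm : ∀ x : G, Cfsg.extendByZero h.P θ (x⁻¹ * y * x) =
      (if x ∈ h.P then θ y - θ y⁻¹ else 0) + (if x ∈ h.N then θ y⁻¹ else 0) := by
    intro x
    by_cases hP : x ∈ h.P
    · rw [if_pos hP, if_pos (Subgroup.le_normalizer hP), sub_add_cancel]
      have e : x⁻¹ * (y : G) * x = y := by
        simpa using h.conj_of_mem (inv_mem hP) y.2
      rw [e, extendByZero_apply]
    rw [if_neg hP, zero_add]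
    by_cases hN : x ∈ h.N
    · rw [if_pos hN]
      have e : x⁻¹ * (y : G) * x = ((y⁻¹ : h.P) : G) := by
        simpa using h.conj_eq_inv (inv_mem hN) (fun e => hP (inv_mem_iff.1 e)) y.2
      rw [e, extendByZero_apply]
    · rw [if_neg hN, extendByZero_not_mem]
      intro hm
      exact hN (inv_mem_iff.1 (h.mem_N y.2 h1 (by rwa [inv_inv])))
  rw [indFun_apply, Finset.sum_congr rfl fun x _ => hterm x, Finset.sum_add_distrib, sum_ite_mem,
    sum_ite_mem, show Nat.card h.N = 2 * p from h.normCard, h.card_P]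
  have : (p : ℂ) ≠ 0 := by exact_mod_cast (Fact.out : p.Prime).ne_zero
  push_cast
  field_simp
  ring

theorem not_sing_mul_self {g : G} (hg : ¬h.Sing g) : ¬h.Sing (g * g) := by
  rintro ⟨h1, x, hx⟩
  refine hg ⟨fun e => h1 (by rw [e, one_mul]), x, h.mem_of_commute hx ?_ ?_⟩
  · intro e
    exact h1 (by simpa using (conj_eq_one_iff (a := x⁻¹) (b := g * g)).1 (by rwa [inv_inv]))
  · show x⁻¹ * g * x * (x⁻¹ * (g * g) * x) = x⁻¹ * (g * g) * x * (x⁻¹ * g * x)
    group

/-! ## Linear characters of `P` -/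

noncomputable def coordEquiv : h.P ≃* Multiplicative (ZMod p) :=
  mulEquivOfPrimeCardEq (p := p) h.card_P (by simp)

noncomputable def E (k : ZMod p) : h.P →* ℂ :=
  ((ZMod.stdAddChar (N := p)).mulShift k).toMonoidHom.comp h.coordEquiv.toMonoidHom

theorem E_apply (k : ZMod p) (y : h.P) :
    h.E k y = ZMod.stdAddChar (k * (h.coordEquiv y).toAdd) := rfl

theorem E_zero (y : h.P) : h.E 0 y = 1 := by rw [E_apply, zero_mul, AddChar.map_zero_eq_one]

theorem E_mul (k l : ZMod p) (y : h.P) : h.E k y * h.E l y = h.E (k + l) y := by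
  simp only [E_apply, ← AddChar.map_add_eq_mul, add_mul]

theorem E_inv (k : ZMod p) (y : h.P) : h.E k y⁻¹ = h.E (-k) y := by
  simp only [E_apply, map_inv, toAdd_inv, mul_neg, neg_mul, AddChar.map_neg_eq_inv]

theorem conj_E (k : ZMod p) (y : h.P) : conj (h.E k y) = h.E (-k) y := by
  rw [E_apply, E_apply, neg_mul, AddChar.map_neg_eq_conj]

theorem classInner_E (k l : ZMod p) :
    Cfsg.classInner (⇑(h.E k)) (⇑(h.E l)) = if k = l then 1 else 0 := by
  rw [classInner_def, h.card_P]
  have e : ∀ y : h.P, h.E k y * conj (h.E l y) =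
      ZMod.stdAddChar ((h.coordEquiv y).toAdd * (k + -l)) := fun y => by
    rw [conj_E, E_mul, E_apply, mul_comm]
  rw [Finset.sum_congr rfl fun y _ => e y]
  have e2 : ∑ y : h.P, ZMod.stdAddChar ((h.coordEquiv y).toAdd * (k + -l)) =
      ∑ i : ZMod p, ZMod.stdAddChar (i * (k + -l)) :=
    (h.coordEquiv.toEquiv.trans Multiplicative.toAdd).sum_comp (fun i => ZMod.stdAddChar (i * (k + -l)))
  rw [e2, AddChar.sum_mulShift _ (ZMod.isPrimitive_stdAddChar p), ZMod.card]
  have : (p : ℂ) ≠ 0 := by exact_mod_cast (Fact.out : p.Prime).ne_zero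
  by_cases e : k = l
  · rw [if_pos e, if_pos (by rw [e, add_neg_cancel]), inv_mul_cancel₀ this]
  · rw [if_neg e, if_neg (fun e' => e (by rwa [← sub_eq_add_neg, sub_eq_zero] at e')), Nat.cast_zero,
      mul_zero]

noncomputable def θ (k : ZMod p) : h.P → ℂ := ⇑(h.E 0) - ⇑(h.E k)

theorem θ_one (k : ZMod p) : h.θ k 1 = 0 := by simp [θ]

theorem isGeneralized_θ (k : ZMod p) : Cfsg.IsGeneralizedCharacter h.P (h.θ k) := by
  have hE : ∀ l, Cfsg.IsCharacter h.P (⇑(h.E l)) := fun l => by
    have e : (⇑(h.E l)) = fun y => (((h.E l).toHomUnits y : ℂˣ) : ℂ) := rfl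
    rw [e]
    exact isCharacter_linear _
  exact IsGeneralizedCharacter.sub (IsCharacter.isGeneralized (hE 0))
    (IsCharacter.isGeneralized (hE k))

noncomputable def I (k : ZMod p) : G → ℂ := Cfsg.indFun h.P (h.θ k)

theorem I_restrict (k : ZMod p) : (fun y : h.P => h.I k y) = h.θ k + h.θ (-k) := by
  funext y
  by_cases h1 : (y : G) = 1
  · obtain rfl : y = 1 := Subtype.ext h1
    rw [Pi.add_apply, θ_one, θ_one]
    show Cfsg.indFun h.P (h.θ k) 1 = 0 + 0
    rw [indFun_one, θ_one, mul_zero, add_zero]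
  · show Cfsg.indFun h.P (h.θ k) y = _
    rw [h.indFun_mem _ h1]
    simp [θ, E_inv, E_zero]

include h in
theorem neg_ne {k : ZMod p} (hk : k ≠ 0) : -k ≠ k := fun e => by
  have h2 : (2 : ZMod p) * k = 0 := by linear_combination -e
  rcases mul_eq_zero.1 h2 with h2 | h2
  · have hd : p ∣ 2 := (ZMod.natCast_eq_zero_iff 2 p).1 (by exact_mod_cast h2)
    have := Nat.le_of_dvd two_pos hd
    have := h.odd
    omega
  · exact hk h2

theorem classInner_I_one {k : ZMod p} (hk : k ≠ 0) :
    Cfsg.classInner (h.I k) (fun _ => 1) = 1 := by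
  rw [I, frobenius_reciprocity _ _ (fun _ _ => rfl),
    show (fun y : h.P => (fun _ : G => (1 : ℂ)) y) = ⇑(h.E 0) from funext fun y => (h.E_zero y).symm,
    θ, classInner_sub_left, classInner_E, classInner_E, if_pos rfl, if_neg hk, sub_zero]

theorem classInner_I_self {k : ZMod p} (hk : k ≠ 0) : Cfsg.classInner (h.I k) (h.I k) = 3 := by
  conv_lhs => arg 1; rw [I]
  rw [frobenius_reciprocity _ _ (χ := h.I k) (isClassFunction_indFun _ _),
    h.I_restrict]
  simp only [θ, classInner_sub_left, classInner_add_right, classInner_sub_right, classInner_E]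
  have h0 : (0 : ZMod p) ≠ -k := fun e => hk (neg_eq_zero.1 e.symm)
  simp [hk, Ne.symm hk, h0, Ne.symm (h.neg_ne hk)]
  norm_num

/-! ## The action -/

variable (α : Type v) [MulAction G α] [Finite α]

/-- The exceptional characters. -/
noncomputable def Φ (k : ZMod p) : G → ℂ :=
  permChar G α - (2 : ℂ) • (fun _ : G => (1 : ℂ)) + h.I k

theorem Φ_apply (k : ZMod p) (g : G) : h.Φ α k g = permChar G α g - 2 + h.I k g := by
  simp [Φ]

theorem isGeneralized_Φ (k : ZMod p) : Cfsg.IsGeneralizedCharacter G (h.Φ α k) := by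
  have e : (2 : ℂ) • (fun _ : G => (1 : ℂ)) = (fun _ : G => (1 : ℂ)) + fun _ : G => (1 : ℂ) := by
    rw [two_smul]
  rw [Φ, e]
  exact IsGeneralizedCharacter.add (IsGeneralizedCharacter.sub
    (IsCharacter.isGeneralized (isCharacter_permChar α))
    (IsCharacter.isGeneralized (IsCharacter.add isCharacter_one isCharacter_one)))
    (IsGeneralizedCharacter.indFun (h.isGeneralized_θ k))

variable [MulAction.IsPretransitive G α] (hα : Nat.card α = p) (hfree : ∀ a : α, h.t • a ≠ a)

include hfree in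
theorem permChar_mem {y : G} (hy : y ∈ h.P) (h1 : y ≠ 1) : permChar G α y = 0 := by
  rw [permChar, Nat.cast_eq_zero, Nat.card_eq_zero]
  refine Or.inl ⟨fun a => hfree a.1 ?_⟩
  obtain ⟨k, hk⟩ : h.t ∈ Subgroup.zpowers y := h.zpowers_eq hy h1 ▸ Subgroup.mem_zpowers h.t
  rw [← hk]
  exact MulAction.mem_stabilizer_iff.1
    (zpow_mem (MulAction.mem_stabilizer_iff.2 a.2 : y ∈ MulAction.stabilizer G a.1) k)

include hα in
theorem permChar_one : permChar G α 1 = p := by
  rw [permChar, MulAction.fixedBy_one_eq_univ, Nat.card_congr (Equiv.Set.univ α), hα]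

omit h in
theorem orbits_pairs (h2 : MulAction.IsMultiplyPretransitive G α 2) (hα : Nat.card α = p) :
    Nat.card (MulAction.orbitRel.Quotient G (α × α)) = 2 := by
  have h1 : Nontrivial α := Finite.one_lt_card_iff_nontrivial.1 (hα ▸ (Fact.out : p.Prime).one_lt)
  obtain ⟨a, b, hab⟩ := exists_pair_ne α
  let f : MulAction.orbitRel.Quotient G (α × α) → Bool :=
    Quotient.lift (fun x : α × α => decide (x.1 = x.2)) fun x y hxy => by
      obtain ⟨g, rfl⟩ := hxy
      simp [Prod.smul_fst, Prod.smul_snd]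
  have hf : Function.Bijective f := by
    refine ⟨?_, fun c => ?_⟩
    · rintro ⟨x⟩ ⟨y⟩ hxy
      replace hxy : decide (x.1 = x.2) = decide (y.1 = y.2) := hxy
      rw [decide_eq_decide] at hxy
      apply Quotient.sound
      show x ∈ MulAction.orbit G y
      by_cases e : y.1 = y.2
      · obtain ⟨g, hg⟩ := MulAction.exists_smul_eq G y.1 x.1
        exact ⟨g, Prod.ext hg (by show g • y.2 = x.2; rw [← e, ← hxy.2 e, hg])⟩
      · obtain ⟨g, hg1, hg2⟩ := MulAction.is_two_pretransitive_iff.1 h2 e (fun e' => e (hxy.1 e'))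
        exact ⟨g, Prod.ext hg1 hg2⟩
    · cases c
      · exact ⟨Quotient.mk'' (a, b), decide_eq_false hab⟩
      · exact ⟨Quotient.mk'' (a, a), decide_eq_true rfl⟩
  rw [Nat.card_eq_of_bijective f hf, Nat.card_eq_fintype_card, Fintype.card_bool]

omit h in
theorem classInner_perm_self (h2 : MulAction.IsMultiplyPretransitive G α 2) (hα : Nat.card α = p) :
    Cfsg.classInner (permChar G α) (permChar G α) = 2 := by
  have e : Cfsg.classInner (permChar G α) (permChar G α) =
      Cfsg.classInner (permChar G (α × α)) (fun _ => 1) := by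
    rw [classInner_def, classInner_def]
    congr 1
    refine Finset.sum_congr rfl fun g _ => ?_
    have e2 : Nat.card (MulAction.fixedBy (α × α) g) =
        Nat.card (MulAction.fixedBy α g) * Nat.card (MulAction.fixedBy α g) := by
      rw [← Nat.card_prod]
      exact Nat.card_congr ((Equiv.subtypeEquivRight fun x => by
        simp [MulAction.mem_fixedBy, Prod.ext_iff]).trans (Equiv.subtypeProdEquivProd (p := fun a => a ∈ MulAction.fixedBy α g) (q := fun a => a ∈ MulAction.fixedBy α g)))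
    simp [permChar, e2]
  rw [e, classInner_permChar_one, orbits_pairs α h2 hα, Nat.cast_ofNat]

omit h in
theorem classInner_perm_one : Nonempty α → Cfsg.classInner (permChar G α) (fun _ => 1) = 1 := by
  intro _
  have : Subsingleton (MulAction.orbitRel.Quotient G α) := (MulAction.pretransitive_iff_subsingleton_quotient G α).1 ‹_›
  have : Nonempty (MulAction.orbitRel.Quotient G α) := ‹Nonempty α›.map Quotient.mk''
  rw [classInner_permChar_one, Nat.card_eq_one_iff_unique.2 ⟨inferInstance, inferInstance⟩, Nat.cast_one]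

include hα hfree in
theorem classInner_Φ_self (h2 : MulAction.IsMultiplyPretransitive G α 2) {k : ZMod p} (hk : k ≠ 0) :
    Cfsg.classInner (h.Φ α k) (h.Φ α k) = 1 := by
  have hne : Nonempty α := (Nat.card_pos_iff.1 (hα ▸ (Fact.out : p.Prime).pos)).1
  have hπI : Cfsg.classInner (h.I k) (permChar G α) = 0 := by
    rw [I, frobenius_reciprocity _ _ (isClassFunction_isChar (isCharacter_permChar α)), classInner_def,
      Finset.sum_eq_zero, mul_zero]
    intro y _
    by_cases h1 : (y : G) = 1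
    · rw [show y = 1 from Subtype.ext h1, θ_one, zero_mul]
    · rw [h.permChar_mem α hfree y.2 h1, map_zero, mul_zero]
  have hIπ : Cfsg.classInner (permChar G α) (h.I k) = 0 := by
    rw [← classInner_conj_symm, hπI, map_zero]
  have h1I : Cfsg.classInner (fun _ : G => (1 : ℂ)) (h.I k) = 1 := by
    rw [← classInner_conj_symm, h.classInner_I_one hk, map_one]
  have h1π : Cfsg.classInner (fun _ : G => (1 : ℂ)) (permChar G α) = 1 := by
    rw [← classInner_conj_symm, classInner_perm_one α hne, map_one]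
  simp only [Φ, classInner_add_left, classInner_add_right, classInner_sub_left, classInner_sub_right,
    classInner_smul_left, classInner_smul_right, map_ofNat, hπI, hIπ, h1I, h1π,
    classInner_perm_one α hne, classInner_perm_self α h2 hα, h.classInner_I_one hk, h.classInner_I_self hk,
    classInner_self_irr isIrrCharacter_one]
  norm_num

include hα in
theorem Φ_one (k : ZMod p) : h.Φ α k 1 = ((p - 2 : ℕ) : ℂ) := by
  have := h.odd
  rw [Φ_apply, permChar_one α hα, Nat.cast_sub (by omega), I, indFun_one, θ_one]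
  simp

include hα hfree in
theorem isIrr_Φ (h2 : MulAction.IsMultiplyPretransitive G α 2) {k : ZMod p} (hk : k ≠ 0) :
    Cfsg.IsIrrCharacter G (h.Φ α k) := by
  refine (isIrr_or_neg_of_norm_one (h.isGeneralized_Φ α k) (h.classInner_Φ_self α hα hfree h2 hk)).resolve_right
    fun hneg => ?_
  obtain ⟨n, hn⟩ := IsCharacter.apply_one (isCharacter_of_irr hneg)
  rw [Pi.neg_apply, h.Φ_one α hα] at hn
  have h0 : ((p - 2 + n : ℕ) : ℂ) = ((0 : ℕ) : ℂ) := by push_cast; linear_combination -hn
  have := Nat.cast_inj.1 h0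
  have := h.odd
  omega

theorem Φ_nonsing (k : ZMod p) {g : G} (hg : ¬h.Sing g) : h.Φ α k g = permChar G α g - 2 := by
  rw [Φ_apply, I, h.indFun_nonsing _ (h.θ_one k) hg, add_zero]

include hfree in
theorem Φ_mem (k : ZMod p) {y : h.P} (h1 : (y : G) ≠ 1) :
    h.Φ α k y = -(h.E k y + h.E (-k) y) := by
  rw [Φ_apply, h.permChar_mem α hfree y.2 h1, congrFun (h.I_restrict k) y]
  simp [θ, E_zero]
  ring

include hfree hα in
theorem Φ_injOn {k l : ZMod p} (hl : l ≠ 0) (e : h.Φ α k = h.Φ α l) : k = l ∨ k = -l := by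
  have e' : (⇑(h.E k) + ⇑(h.E (-k))) = (⇑(h.E l) + ⇑(h.E (-l))) := by
    funext y
    by_cases h1 : (y : G) = 1
    · simp [show y = 1 from Subtype.ext h1]
    · have e2 := congrFun e (y : G)
      rw [h.Φ_mem α hfree k h1, h.Φ_mem α hfree l h1, neg_inj] at e2
      exact e2
  by_contra hc
  push Not at hc
  have e3 := congrArg (fun f => Cfsg.classInner f ⇑(h.E l)) e'
  simp only [classInner_add_left, classInner_E] at e3
  have h0 : -k ≠ l := fun e => hc.2 (by rw [← e, neg_neg])
  simp [hc.1, h0, h.neg_ne hl] at e3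

/-- The alternating square of an exceptional character. -/
noncomputable def V (k : ZMod p) : G → ℂ :=
  fun g => (h.Φ α k g * h.Φ α k g - h.Φ α k (g * g)) / 2

include hfree in
theorem V_mem (k : ZMod p) {y : h.P} (h1 : (y : G) ≠ 1) :
    h.V α k y = 1 + h.E (k + k) y + h.E (-(k + k)) y := by
  have h2 : ((y * y : h.P) : G) ≠ 1 := h.mul_self_ne_one y.2 h1
  have h3 : ∀ l, h.E l (y * y) = h.E l y * h.E l y := fun l => map_mul _ _ _
  show (h.Φ α k y * h.Φ α k y - h.Φ α k ((y * y : h.P) : G)) / 2 = _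
  rw [h.Φ_mem α hfree k h1, h.Φ_mem α hfree k h2, h3, h3, neg_add k k, ← h.E_mul k k,
    ← h.E_mul (-k) (-k)]
  have hu : h.E k y * h.E (-k) y = 1 := by rw [h.E_mul, add_neg_cancel, E_zero]
  linear_combination hu

include hfree in
theorem V_diff {k l : ZMod p} (hk : k ≠ 0) (hl : l ≠ 0) (hl₁ : l ≠ k + k) (hl₂ : l ≠ -(k + k))
    (hV : Cfsg.IsClassFunction G (h.V α k)) :
    Cfsg.classInner (h.V α k) (h.Φ α l) = Cfsg.classInner (h.V α k) (h.Φ α (k + k)) + 1 := by
  have hm : k + k ≠ 0 := fun e => h.neg_ne hk (eq_neg_of_add_eq_zero_left e).symm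
  suffices hs : Cfsg.classInner (h.V α k) (h.I l - h.I (k + k)) = 1 by
    have e : h.Φ α l = h.Φ α (k + k) + (h.I l - h.I (k + k)) := by simp only [Φ]; abel
    rw [e, classInner_add_right, hs]
  have e2 : h.I l - h.I (k + k) = Cfsg.indFun h.P (h.θ l - h.θ (k + k)) := (indFun_sub _ _ _).symm
  rw [e2, frobenius_reciprocity' _ _ hV]
  have e3 : h.θ l - h.θ (k + k) = ⇑(h.E (k + k)) - ⇑(h.E l) := by simp [θ]
  rw [e3]
  have e4 : Cfsg.classInner (fun y : h.P => h.V α k y) (⇑(h.E (k + k)) - ⇑(h.E l)) =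
      Cfsg.classInner (⇑(h.E 0) + ⇑(h.E (k + k)) + ⇑(h.E (-(k + k))))
        (⇑(h.E (k + k)) - ⇑(h.E l)) := by
    rw [classInner_def, classInner_def]
    congr 1
    refine Finset.sum_congr rfl fun y _ => ?_
    by_cases h1 : (y : G) = 1
    · simp [show y = 1 from Subtype.ext h1]
    · rw [h.V_mem α hfree k h1]
      simp [E_zero]
  rw [e4]
  simp only [classInner_add_left, classInner_sub_right, classInner_E]
  simp only [Ne.symm hm, Ne.symm hl, Ne.symm hl₁, h.neg_ne hm, Ne.symm hl₂, if_false, if_true]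
  norm_num

omit h in
theorem eq_zero_of_apply_one {χ : G → ℂ} (hχ : Cfsg.IsCharacter G χ) (h0 : χ 1 = 0) : χ = 0 := by
  obtain ⟨n, ρ, rfl⟩ := hχ
  rw [Representation.char_one, Module.finrank_fintype_fun_eq_card, Fintype.card_fin, Nat.cast_eq_zero] at h0
  subst h0
  funext g
  rw [Representation.character, Subsingleton.elim (ρ g) 0, map_zero, Pi.zero_apply]

include hfree hα in
/-- The relation between the fixed points of a `p`-regular element and those of its square. -/
theorem fixed_relation (h2 : MulAction.IsMultiplyPretransitive G α 2) {g : G} (hg : ¬h.Sing g) :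
    (permChar G α g - 2) * (permChar G α g - 2) - (permChar G α (g * g) - 2) =
      ((p - 3 : ℕ) : ℂ) * (permChar G α g - 2) := by
  have hp2 := h.odd
  have hirr := fun l (hl : l ≠ (0 : ZMod p)) => h.isIrr_Φ α hα hfree h2 hl
  have h10 : (1 : ZMod p) ≠ 0 := one_ne_zero
  set m : ZMod p := 1 + 1 with hmdef
  have hm : m ≠ 0 := fun e => h.neg_ne h10 (eq_neg_of_add_eq_zero_left e).symm
  have hV : Cfsg.IsCharacter G (h.V α 1) :=
    isCharacter_altSquare (isCharacter_of_irr (hirr 1 h10))
  have hVc := isClassFunction_isChar hV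
  obtain ⟨c, hc⟩ := IsCharacter.exists_mult hV (hirr m hm)
  let D : Finset (ZMod p) := Finset.univ \ {0, m, -m}
  have hD : ∀ l ∈ D, l ≠ 0 ∧ l ≠ m ∧ l ≠ -m := fun l hl => by
    simpa [D, not_or] using hl
  have hDcard : D.card = p - 3 := by
    rw [Finset.card_sdiff_of_subset (Finset.subset_univ _), Finset.card_univ, ZMod.card,
      Finset.card_insert_of_notMem, Finset.card_pair (h.neg_ne hm).symm]
    simp only [Finset.mem_insert, Finset.mem_singleton, not_or]
    exact ⟨Ne.symm hm, fun e => hm (neg_eq_zero.1 e.symm)⟩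
  let F : ZMod p → Cfsg.IrrCharacter G :=
    fun l => if hl : l ≠ 0 then ⟨h.Φ α l, hirr l hl⟩ else principal G
  have hF : ∀ l ∈ D, (F l : G → ℂ) = h.Φ α l := fun l hl => by simp only [F, dif_pos (hD l hl).1]
  let S : Finset (Cfsg.IrrCharacter G) := D.image F
  have hScard : p - 3 ≤ 2 * S.card := by
    rw [← hDcard]
    refine Finset.card_le_mul_card_image D 2 fun b hb => ?_
    obtain ⟨l, hl, rfl⟩ := Finset.mem_image.1 hb
    refine le_trans (Finset.card_le_card (t := {l, -l}) ?_) Finset.card_le_two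
    intro k hk
    rw [Finset.mem_filter] at hk
    have e : h.Φ α k = h.Φ α l := by rw [← hF k hk.1, ← hF l hl, hk.2]
    rcases h.Φ_injOn α hα hfree (hD l hl).1 e with rfl | rfl <;> simp
  let f : G → ℂ := h.V α 1 - ∑ χ ∈ S, (χ : G → ℂ)
  have hS : Cfsg.IsCharacter G (∑ χ ∈ S, (χ : G → ℂ)) :=
    IsCharacter.sum S _ fun χ _ => isCharacter_of_irr χ.2
  have hfc : Cfsg.IsCharacter G f := by
    refine isCharacter_of_coeff (fun x y => ?_) fun χ => ?_
    · simp only [f, Pi.sub_apply]
      rw [hVc x y, isClassFunction_isChar hS x y]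
    obtain ⟨n, hn⟩ := IsCharacter.exists_mult hV χ.2
    simp only [f, classInner_sub_left, classInner_sum_left, hn]
    by_cases hχ : χ ∈ S
    · rw [Finset.sum_eq_single χ (fun ψ _ hψ => classInner_irr_ne hψ) (fun e => absurd hχ e), classInner_irr_self]
      obtain ⟨l, hl, rfl⟩ := Finset.mem_image.1 hχ
      obtain ⟨hl0, hl1, hl2⟩ := hD l hl
      rw [hF l hl, h.V_diff α hfree h10 hl0 hl1 hl2 hVc, hc] at hn
      exact ⟨c, by linear_combination -hn⟩
    · rw [Finset.sum_eq_zero fun ψ hψ => classInner_irr_ne fun (e : ψ = χ) => hχ (e ▸ hψ)]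
      exact ⟨n, by rw [sub_zero]⟩
  obtain ⟨d, hd⟩ := IsCharacter.apply_one hfc
  have hSval : ∀ χ ∈ S, ∀ x, ¬h.Sing x → (χ : G → ℂ) x = permChar G α x - 2 := fun χ hχ x hx => by
    obtain ⟨l, hl, rfl⟩ := Finset.mem_image.1 hχ
    rw [hF l hl, h.Φ_nonsing α l hx]
  have hfval : ∀ x, ¬h.Sing x → f x =
      ((permChar G α x - 2) * (permChar G α x - 2) - (permChar G α (x * x) - 2)) / 2 -
        (S.card : ℂ) * (permChar G α x - 2) := fun x hx => by
    simp only [f, Pi.sub_apply, Finset.sum_apply]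
    rw [Finset.sum_congr rfl fun χ hχ => hSval χ hχ x hx, Finset.sum_const, nsmul_eq_mul, V,
      h.Φ_nonsing α 1 hx, h.Φ_nonsing α 1 (h.not_sing_mul_self hx)]
  have hone := hfval 1 fun e => e.1 rfl
  rw [one_mul, permChar_one α hα, hd] at hone
  have hint : (2 * d + 2 * S.card * ((p : ℤ) - 2) : ℤ) = ((p : ℤ) - 2) * ((p : ℤ) - 2) - ((p : ℤ) - 2) := by
    apply Int.cast_injective (α := ℂ)
    push_cast
    linear_combination 2 * hone
  have h3 : 2 * S.card = p - 3 ∧ d = 0 := by
    have hp3 : 3 ≤ p := by omega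
    have hA : ((p : ℤ) - 3) ≤ 2 * (S.card : ℤ) := by
      have := (Nat.cast_le (α := ℤ)).2 hScard
      push_cast [Nat.cast_sub hp3] at this
      linarith
    have hB : (0 : ℤ) < (p : ℤ) - 2 := by omega
    have hC : 2 * (S.card : ℤ) = (p : ℤ) - 3 := by nlinarith
    refine ⟨by omega, ?_⟩
    rw [hC] at hint
    nlinarith
  obtain ⟨h3a, rfl⟩ := h3
  have hf0 : f = 0 := eq_zero_of_apply_one hfc (by rw [hd, Nat.cast_zero])
  have hgv := hfval g hg
  rw [hf0, Pi.zero_apply] at hgv
  rw [← h3a]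
  push_cast
  linear_combination -2 * hgv

include hfree hα in
theorem fixed_le_two (h2 : MulAction.IsMultiplyPretransitive G α 2) [FaithfulSMul G α] (g : G)
    (hg : 3 ≤ Nat.card (MulAction.fixedBy α g)) : g = 1 := by
  by_cases hs : h.Sing g
  · obtain ⟨h1, x, hx⟩ := hs
    have e := isClassFunction_isChar (isCharacter_permChar (G := G) α) g x⁻¹
    rw [inv_inv, h.permChar_mem α hfree hx (fun e => h1 (by simpa using (conj_eq_one_iff (a := x⁻¹) (b := g)).1 (by rwa [inv_inv])))] at e
    rw [permChar] at e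
    have : Nat.card (MulAction.fixedBy α g) = 0 := by exact_mod_cast e.symm
    omega
  have hrel := h.fixed_relation α hα hfree h2 hs
  have hle : ∀ x : G, Nat.card (MulAction.fixedBy α x) ≤ p := fun x => hα ▸ Finite.card_subtype_le _
  have hmono : Nat.card (MulAction.fixedBy α g) ≤ Nat.card (MulAction.fixedBy α (g * g)) :=
    Nat.card_mono (Set.toFinite _) fun a (ha : g • a = a) => show (g * g) • a = a by rw [mul_smul, ha, ha]
  by_contra hne
  have hlt : Nat.card (MulAction.fixedBy α g) < p := by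
    refine lt_of_le_of_ne (hle g) fun e => hne ?_
    have hu : MulAction.fixedBy α g = Set.univ :=
      Set.eq_univ_of_forall fun a => by
        by_contra ha
        have := Finite.card_subtype_lt ha
        rw [hα] at this
        exact this.ne e
    exact FaithfulSMul.eq_of_smul_eq_smul fun a : α => by
      rw [one_smul]; exact (hu ▸ Set.mem_univ a : a ∈ MulAction.fixedBy α g)
  have hZ : ((Nat.card (MulAction.fixedBy α g) : ℤ) - 2) * ((Nat.card (MulAction.fixedBy α g) : ℤ) - 2) -
      ((Nat.card (MulAction.fixedBy α (g * g)) : ℤ) - 2) =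
      ((p - 3 : ℕ) : ℤ) * ((Nat.card (MulAction.fixedBy α g) : ℤ) - 2) := by
    apply Int.cast_injective (α := ℂ)
    simp only [permChar] at hrel
    push_cast
    exact hrel
  rw [Nat.cast_sub (by omega)] at hZ
  have ha : (3 : ℤ) ≤ Nat.card (MulAction.fixedBy α g) := by exact_mod_cast hg
  have hb : (Nat.card (MulAction.fixedBy α g) : ℤ) + 1 ≤ p := by exact_mod_cast hlt
  have hc : (Nat.card (MulAction.fixedBy α g) : ℤ) ≤ Nat.card (MulAction.fixedBy α (g * g)) := by
    exact_mod_cast hmono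
  push_cast at hZ
  nlinarith

end Setting

end Cfsg.Lib.PermGroups.PrimeExceptional
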