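import Cfsg.Agent.PermGroups.DegreeTwiceP.Order
import Cfsg.Agent.S4706

/-!
# A group with exceptional characters of degree `p - 2` is `SL(2, 2^a)`
-/

set_option autoImplicit false
set_option linter.unusedSectionVars false
set_option maxHeartbeats 800000

namespace Cfsg.Lib.PermGroups.PrimeExceptional

open Cfsg.Lib.Chars
open scoped ComplexConjugate _root_.Classical

universe u

variable {G : Type u} [Group G] [Fintype G]

theorem card_eq_class_mul (N : Subgroup G) (s : G) (T : Set G)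
    (hmaps : ∀ g ∈ N, g * s * g⁻¹ ∈ T) (hsurj : ∀ x ∈ T, ∃ g ∈ N, g * s * g⁻¹ = x) :
    Nat.card N = Nat.card T * Nat.card (N ⊓ Subgroup.centralizer {s} : Subgroup G) := by
  let _ : MulAction N G := MulAction.compHom G ((ConjAct.toConjAct : G ≃* ConjAct G).toMonoidHom.comp N.subtype)
  have hsmul : ∀ (n : N) (x : G), n • x = (n : G) * x * (n : G)⁻¹ := fun n x => rfl
  have horb : MulAction.orbit N s = T := by
    ext x
    constructor
    · rintro ⟨n, rfl⟩; exact hmaps n n.2
    · intro hx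
      obtain ⟨g, hg, e⟩ := hsurj x hx
      exact ⟨⟨g, hg⟩, e⟩
  have hst : MulAction.stabilizer N s = (N ⊓ Subgroup.centralizer {s}).subgroupOf N := by
    ext n
    rw [MulAction.mem_stabilizer_iff, hsmul, Subgroup.mem_subgroupOf, Subgroup.mem_inf,
      Subgroup.mem_centralizer_singleton_iff, mul_inv_eq_iff_eq_mul]
    exact ⟨fun e => ⟨n.2, e⟩, fun e => e.2⟩
  have h1 := Nat.card_congr (MulAction.orbitProdStabilizerEquivGroup N s)
  rw [Nat.card_prod, horb, hst, Nat.card_congr (Subgroup.subgroupOfEquivOfLe inf_le_left).toEquiv] at h1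
  exact h1.symm

/-- Two involutions whose product has odd order are conjugate. -/
theorem exists_conj_of_odd {s u : G} (hs : s * s = 1) (hu : u * u = 1) (ho : Odd (orderOf (s * u))) :
    ∃ g : G, g * s * g⁻¹ = u := by
  obtain ⟨k, hk⟩ := ho
  have hsi : s⁻¹ = s := inv_eq_of_mul_eq_one_right hs
  have hui : u⁻¹ = u := inv_eq_of_mul_eq_one_right hu
  have hsemi : ∀ n : ℕ, s * ((s * u) ^ n)⁻¹ = (s * u) ^ n * s := by
    intro n
    have h1 : SemiconjBy s (s * u)⁻¹ (s * u) := by
      show s * (s * u)⁻¹ = s * u * s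
      rw [mul_inv_rev, hsi, hui, ← mul_assoc]
    have := (h1.pow_right n).eq
    rwa [inv_pow] at this
  refine ⟨(s * u) ^ k, ?_⟩
  have h2 : (s * u) ^ (2 * k + 1) = 1 := hk ▸ pow_orderOf_eq_one _
  have h3 : (s * u) ^ k * ((s * u) ^ k * s) = u := by
    rw [← mul_assoc, ← pow_add, ← two_mul]
    rw [pow_succ] at h2
    rw [eq_inv_of_mul_eq_one_left h2, mul_inv_rev, hsi, hui, mul_assoc, hs, mul_one]
  rw [mul_assoc, hsemi, h3]

namespace Setting

variable {p : ℕ} [Fact p.Prime] (h : Setting G p)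
  {θ : Cfsg.IrrCharacter G} {μ : ZMod p → Cfsg.IrrCharacter G}
  (hμ : ∀ l, l ≠ 0 → μ l ≠ principal G ∧ (μ l : G → ℂ) 1 = ((p - 2 : ℕ) : ℂ) ∧
        (∀ g, ¬h.Sing g → (μ l : G → ℂ) g = (θ : G → ℂ) g - 1) ∧
        (∀ y : h.P, (y : G) ≠ 1 → (μ l : G → ℂ) y = -(h.E l y + h.E (-l) y)) ∧
        h.I l = (fun _ => (1 : ℂ)) - (θ : G → ℂ) + (μ l : G → ℂ))

include hμ in
theorem θ_apply_one (hp : 2 ≤ p) : (θ : G → ℂ) 1 = ((p - 1 : ℕ) : ℂ) := by
  have h10 : (1 : ZMod p) ≠ 0 := one_ne_zero
  have e := (hμ 1 h10).2.2.1 1 fun e => e.1 rfl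
  rw [(hμ 1 h10).2.1, Nat.cast_sub hp] at e
  rw [Nat.cast_sub (by omega : 1 ≤ p)]
  push_cast at e ⊢
  linear_combination -e

include hμ in
/-- The nonexceptional character is rational integral. -/
theorem θ_int : ∀ g, ∃ n : ℤ, (θ : G → ℂ) g = n := by
  intro g
  have h10 : (1 : ZMod p) ≠ 0 := one_ne_zero
  have hp2 := h.odd
  have hθ := θ_apply_one h hμ (by omega)
  have hθμ : ∀ l, l ≠ 0 → μ l ≠ θ := fun l hl e => by
    have := (hμ l hl).2.1
    rw [e, hθ, Nat.cast_inj] at this
    omega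
  set m := Nat.card G
  have : NeZero m := ⟨Nat.card_pos.ne'⟩
  have hθc := isCharacter_of_irr θ.2
  obtain ⟨q, hq⟩ := rat_of_galConj_fixed (IsCharacter.mem_cycField hθc (m := m) (orderOf_dvd_natCard g))
    (fun σ k hk hσ => by
      have hpm : p ∣ m := h.card_P ▸ Subgroup.card_subgroup_dvd_card h.P
      have hk0 : (k : ZMod p) ≠ 0 := fun e => by
        rw [ZMod.natCast_eq_zero_iff] at e
        exact (Fact.out : p.Prime).not_dvd_one (hk ▸ Nat.dvd_gcd e hpm)
      have hI : ∀ x, σ (h.I 1 x) = h.I (k : ZMod p) x := fun x => by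
        by_cases hx : h.Sing x
        · obtain ⟨hx1, c, hc⟩ := hx
          have e1 := isClassFunction_indFun h.P (h.θ 1) x c⁻¹
          have e2 := isClassFunction_indFun h.P (h.θ (k : ZMod p)) x c⁻¹
          rw [inv_inv] at e1 e2
          rw [I, I, ← e1, ← e2]
          have e3 := congrFun (h.I_restrict 1) ⟨_, hc⟩
          have e4 := congrFun (h.I_restrict (k : ZMod p)) ⟨_, hc⟩
          simp only [I] at e3 e4
          rw [e3, e4]
          have hE : ∀ l : ZMod p, ∀ y : h.P, σ (h.E l y) = h.E ((k : ZMod p) * l) y := fun l y => by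
            have hpow : h.E l y ^ m = 1 := by
              obtain ⟨d, hd⟩ := hpm
              rw [hd, pow_mul, ← map_pow, show y ^ p = 1 from by
                have := pow_card_eq_one' (x := y); rwa [h.card_P] at this, map_one, one_pow]
            rw [hσ _ hpow, E_apply, E_apply, ← AddChar.map_nsmul_eq_pow, nsmul_eq_mul, mul_assoc]
          simp [Setting.θ, hE, map_sub, map_add]
        · rw [I, I, h.indFun_nonsing _ (h.θ_one _) hx, h.indFun_nonsing _ (h.θ_one _) hx, map_zero]
      let θσ : Cfsg.IrrCharacter G := ⟨_, IsIrrCharacter.map_auto θ.2 σ⟩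
      let μσ : Cfsg.IrrCharacter G := ⟨_, IsIrrCharacter.map_auto (μ 1).2 σ⟩
      have e : (fun _ : G => (1 : ℂ)) - (θσ : G → ℂ) + (μσ : G → ℂ) =
          (fun _ => (1 : ℂ)) - (θ : G → ℂ) + (μ (k : ZMod p) : G → ℂ) := by
        rw [← (hμ _ hk0).2.2.2.2]
        funext x
        rw [← hI x, (hμ 1 h10).2.2.2.2]
        simp only [Pi.add_apply, Pi.sub_apply, map_add, map_sub, map_one, θσ, μσ]
      have e2 : (θ : G → ℂ) - (θσ : G → ℂ) + (μσ : G → ℂ) - (μ (k : ZMod p) : G → ℂ) = 0 := by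
        funext x
        have := congrFun e x
        simp only [Pi.add_apply, Pi.sub_apply, Pi.zero_apply] at this ⊢
        linear_combination this
      have e3 := congrArg (fun f => Cfsg.classInner f (θ : G → ℂ)) e2
      simp only [classInner_sub_left, classInner_add_left, classInner_irrCharacter, classInner_zero_left] at e3
      by_contra hne
      simp only [if_true] at e3
      rw [if_neg (hθμ _ hk0), if_neg (fun e' : θσ = θ => hne (congrFun (congrArg Subtype.val e') g))] at e3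
      split_ifs at e3 <;> norm_num at e3)
  obtain ⟨z, hz⟩ := int_of_isIntegral_rat (hq ▸ IsCharacter.isIntegral hθc g)
  exact ⟨z, by rw [hq, hz, Rat.cast_intCast]⟩

variable (hinj : ∀ k l, k ≠ 0 → l ≠ 0 → μ k = μ l → k = l ∨ k = -l)

include hμ hinj in
/-- Recognition of `SL(2, 2^a)`. -/
theorem exists_iso_sl (hp5 : 5 < p) (hmin : ∀ K : Subgroup G, K.Normal → h.t ∉ K → K = ⊥) :
    ∃ (a : ℕ) (F : Type) (_ : Field F) (_ : Fintype F), p = 2 ^ a + 1 ∧ Fintype.card F = 2 ^ a ∧
      Nonempty (G ≃* Matrix.SpecialLinearGroup (Fin 2) F) := by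
  have hp := (Fact.out : p.Prime)
  have h10 : (1 : ZMod p) ≠ 0 := one_ne_zero
  have hθint := h.θ_int hμ
  have hord := h.order_eq hμ hinj hp5 hθint hmin
  have hθ1 := θ_apply_one h hμ (by omega)
  have hθc := isCharacter_of_irr θ.2
  obtain ⟨r, hr⟩ : ∃ r, p = 2 * r + 1 := hp.odd_of_ne_two (by omega)
  have hns1 : ¬h.Sing 1 := fun e => e.1 rfl
  -- the values of `θ` off the Sylow subgroups
  have hval : ∀ g, ¬h.Sing g → g ≠ 1 → (θ : G → ℂ) g = 1 ∨ (θ : G → ℂ) g = 0 := fun g hg hg1 =>
    (h.value_eq hμ hinj hp5 hθint hmin hg hg1).imp (fun e => by linear_combination e)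
      (fun e => by linear_combination e)
  have hns_sq : ∀ g, g * g = 1 → ¬h.Sing g := by
    rintro g hg ⟨h1, x, hx⟩
    refine h.mul_self_ne_one hx (fun e => h1 ((conj_eq_one_iff (a := x⁻¹) (b := g)).1 (by rwa [inv_inv]))) ?_
    rw [show x⁻¹ * g * x * (x⁻¹ * g * x) = x⁻¹ * (g * g) * x from by group, hg]; group
  have hinv : ∀ g, g ≠ 1 → g * g = 1 → (θ : G → ℂ) g = 0 := by
    intro g hg1 hg
    refine (hval g (hns_sq g hg) hg1).resolve_left fun e => ?_
    have := h.square_relation hμ hinj (by omega) (hns_sq g hg)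
    rw [e, hg, hθ1] at this
    have h2 : ((p - 1 : ℕ) : ℂ) = ((1 : ℕ) : ℂ) := by push_cast; linear_combination -this
    have := Nat.cast_inj.1 h2
    omega
  have hinv' : ∀ g, ¬h.Sing g → (θ : G → ℂ) g = 0 → g * g = 1 := by
    intro g hg e
    by_contra hgg
    have := h.square_relation hμ hinj (by omega) hg
    rw [e, Nat.cast_sub (by omega : 3 ≤ p)] at this
    rcases hval _ (h.not_sing_mul_self hg) hgg with e' | e' <;> rw [e'] at this
    · have h2 : ((p : ℕ) : ℂ) = ((2 : ℕ) : ℂ) := by push_cast at this ⊢; linear_combination this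
      have := Nat.cast_inj.1 h2
      omega
    · have h2 : ((p : ℕ) : ℂ) = ((1 : ℕ) : ℂ) := by push_cast at this ⊢; linear_combination this
      have := Nat.cast_inj.1 h2
      omega
  have hcomm_ns : ∀ g s : G, s ≠ 1 → s * s = 1 → Commute g s → ¬h.Sing g := by
    rintro g s hs1 hs hgs ⟨h1, x, hx⟩
    have hne : x⁻¹ * g * x ≠ 1 := fun e => h1 ((conj_eq_one_iff (a := x⁻¹) (b := g)).1 (by rwa [inv_inv]))
    have hmem := h.mem_of_commute hx hne (g := x⁻¹ * s * x) (by
      show x⁻¹ * s * x * (x⁻¹ * g * x) = x⁻¹ * g * x * (x⁻¹ * s * x)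
      calc x⁻¹ * s * x * (x⁻¹ * g * x) = x⁻¹ * (s * g) * x := by group
        _ = x⁻¹ * (g * s) * x := by rw [hgs.eq]
        _ = _ := by group)
    refine hns_sq s hs ⟨hs1, x, hmem⟩
  -- cyclic sums
  have hsum_dvd : ∀ g : G, ∃ z : ℤ,
      ∑ i ∈ Finset.range (orderOf g), (θ : G → ℂ) (g ^ i) = (orderOf g : ℂ) * z := by
    intro g
    obtain ⟨z, hz⟩ := IsCharacter.exists_mult (IsCharacter.restrict hθc (Subgroup.zpowers g)) isIrrCharacter_one
    refine ⟨z, ?_⟩
    rw [classInner_def, Nat.card_zpowers, inv_mul_eq_iff_eq_mul₀ (by exact_mod_cast (orderOf_pos g).ne')] at hz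
    rw [Int.cast_natCast, ← hz, ← Fin.sum_univ_eq_sum_range (fun i => (θ : G → ℂ) (g ^ i)),
      ← (finEquivZPowers (isOfFinOrder_of_finite g)).sum_comp]
    exact Finset.sum_congr rfl fun i _ => by simp [finEquivZPowers_apply]
  have hdvd4 : ¬4 ∣ p * (p - 1) * (p - 2) ∨ ∀ h4 : G, orderOf h4 ≠ 4 := by
    by_cases hc : ∀ h4 : G, orderOf h4 ≠ 4
    · exact Or.inr hc
    left
    push Not at hc
    obtain ⟨g, hg⟩ := hc
    obtain ⟨z, hz⟩ := hsum_dvd g
    have hg2 : g ^ 2 ≠ 1 := pow_ne_one_of_lt_orderOf two_ne_zero (by omega)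
    have hg1 : g ≠ 1 := fun e => by rw [e, orderOf_one] at hg; omega
    have hgg : g ^ 2 * g ^ 2 = 1 := by rw [← pow_add, show 2 + 2 = orderOf g by omega, pow_orderOf_eq_one]
    have hg3 : g ^ 3 ≠ 1 := pow_ne_one_of_lt_orderOf (by omega) (by omega)
    have hcs : ∀ i, Commute (g ^ i) (g ^ 2) := fun i => (Commute.refl g).pow_pow i 2
    have hone : ∀ i, g ^ i ≠ 1 → g ^ i * g ^ i ≠ 1 → (θ : G → ℂ) (g ^ i) = 1 := fun i h1 h2 =>
      (hval _ (hcomm_ns _ _ hg2 hgg (hcs i)) h1).resolve_right fun e =>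
        h2 (hinv' _ (hcomm_ns _ _ hg2 hgg (hcs i)) e)
    rw [hg, Finset.sum_range_succ, Finset.sum_range_succ, Finset.sum_range_succ, Finset.sum_range_one,
      pow_zero, hθ1, hinv _ hg2 hgg, hone 1 (by rwa [pow_one]) (by rwa [pow_one, ← pow_two]),
      hone 3 hg3 (by
        rw [← pow_add, show 3 + 3 = orderOf g + 2 by omega, pow_add, pow_orderOf_eq_one, one_mul]; exact hg2)] at hz
    have hz' : ((p - 1 : ℕ) : ℤ) + 0 + 1 + 0 + 1 = 4 * z + 0 := by
      apply Int.cast_injective (α := ℂ)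
      push_cast at hz ⊢
      linear_combination hz
    intro h4
    have hodd : ¬2 ∣ p * (p - 2) := by
      rw [Nat.prime_two.dvd_mul]; omega
    have hmod : (p - 1) % 4 = 2 := by omega
    have hcop : Nat.Coprime 4 (p * (p - 2)) := by
      rw [show 4 = 2 ^ 2 by norm_num]
      exact (Nat.prime_two.coprime_iff_not_dvd.2 hodd).pow_left 2
    rw [mul_right_comm] at h4
    have := hcop.dvd_of_dvd_mul_left h4
    omega
  have hno4 : ∀ h4 : G, orderOf h4 ≠ 4 := by
    rcases hdvd4 with e | e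
    · intro h4 e4
      exact e (by rw [← hord, ← e4]; exact orderOf_dvd_natCard h4)
    · exact e
  have heven : ∀ g : G, 2 ∣ orderOf g → g * g = 1 := by
    intro g hg
    by_contra hgg
    obtain ⟨j, hj⟩ := hg
    have hpos := orderOf_pos g
    have hj2 : ¬2 ∣ j := by
      rintro ⟨i, rfl⟩
      refine hno4 (g ^ i) ?_
      rw [orderOf_pow' g (by omega), hj, show 2 * (2 * i) = 4 * i by ring,
        Nat.gcd_eq_right (dvd_mul_left i 4), Nat.mul_div_cancel _ (by omega : 0 < i)]
    have hj1 : 1 < j := by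
      by_contra hc
      apply hgg
      rw [← pow_two, show 2 = orderOf g by omega, pow_orderOf_eq_one]
    set s := g ^ j with hs
    have hs1 : s ≠ 1 := pow_ne_one_of_lt_orderOf (by omega) (by omega)
    have hss : s * s = 1 := by rw [hs, ← pow_add, show j + j = orderOf g by omega, pow_orderOf_eq_one]
    have hcs : ∀ i, Commute (g ^ i) s := fun i => (Commute.refl g).pow_pow i j
    have hone : ∀ i, i < orderOf g → i ≠ 0 → i ≠ j → (θ : G → ℂ) (g ^ i) = 1 := fun i h1 h2 h3 =>
      (hval _ (hcomm_ns _ _ hs1 hss (hcs i)) (pow_ne_one_of_lt_orderOf h2 h1)).resolve_right fun e => by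
        have e2 := hinv' _ (hcomm_ns _ _ hs1 hss (hcs i)) e
        rw [← pow_add, ← orderOf_dvd_iff_pow_eq_one, hj, ← two_mul] at e2
        obtain ⟨c, hc⟩ := Nat.dvd_of_mul_dvd_mul_left two_pos e2
        rcases c with _ | _ | c
        · omega
        · omega
        · rw [hj, hc] at h1
          have : j * 2 ≤ j * (c + 1 + 1) := Nat.mul_le_mul_left j (by omega)
          omega
    -- the whole cyclic group
    obtain ⟨z, hz⟩ := hsum_dvd g
    rw [← Finset.add_sum_erase _ _ (Finset.mem_range.2 hpos),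
      ← Finset.add_sum_erase _ _ (Finset.mem_erase.2 ⟨show j ≠ 0 by omega, Finset.mem_range.2 (by omega)⟩),
      ← hs, hinv s hs1 hss, pow_zero, hθ1,
      Finset.sum_congr rfl fun i hi => hone i (Finset.mem_range.1 (Finset.mem_erase.1 (Finset.mem_erase.1 hi).2).2)
        (Finset.mem_erase.1 (Finset.mem_erase.1 hi).2).1 (Finset.mem_erase.1 hi).1,
      Finset.sum_const, Finset.card_erase_of_mem (Finset.mem_erase.2 ⟨show j ≠ 0 by omega, Finset.mem_range.2 (by omega)⟩),
      Finset.card_erase_of_mem (Finset.mem_range.2 hpos), Finset.card_range, nsmul_eq_mul, mul_one] at hz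
    have hz' : ((p - 1 : ℕ) : ℤ) + (0 + ((orderOf g - 1 - 1 : ℕ) : ℤ)) = (orderOf g : ℤ) * z := by
      exact_mod_cast hz
    -- its subgroup of odd order
    obtain ⟨z₂, hz₂⟩ := hsum_dvd (g ^ 2)
    have ho2 : orderOf (g ^ 2) = j := by
      rw [orderOf_pow' g two_ne_zero, hj, Nat.gcd_eq_right (dvd_mul_right 2 j), Nat.mul_div_cancel_left _ two_pos]
    rw [ho2, ← Finset.add_sum_erase _ _ (Finset.mem_range.2 (by omega : 0 < j)), pow_zero, hθ1,
      Finset.sum_congr rfl fun i hi => (by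
        rw [← pow_mul]
        have h1 := Finset.mem_range.1 (Finset.mem_erase.1 hi).2
        have h2 := (Finset.mem_erase.1 hi).1
        exact hone _ (by omega) (by omega) (by omega) : (θ : G → ℂ) ((g ^ 2) ^ i) = 1),
      Finset.sum_const, Finset.card_erase_of_mem (Finset.mem_range.2 (by omega : 0 < j)), Finset.card_range,
      nsmul_eq_mul, mul_one] at hz₂
    have hz₂' : ((p - 1 : ℕ) : ℤ) + ((j - 1 : ℕ) : ℤ) = (j : ℤ) * z₂ := by exact_mod_cast hz₂
    rw [hj] at hz'
    have e1 : ((2 * j - 1 - 1 : ℕ) : ℤ) = 2 * (j : ℤ) - 2 := by omega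
    have e2 : ((j - 1 : ℕ) : ℤ) = (j : ℤ) - 1 := by omega
    rw [e1] at hz'
    rw [e2] at hz₂'
    push_cast at hz'
    have : (j : ℤ) ∣ 1 := ⟨1 - 2 * z + z₂ + 0, by linear_combination hz₂' - hz'⟩
    have := Int.le_of_dvd one_pos this
    omega
  -- the involutions
  let T : Set G := {g | g ≠ 1 ∧ g * g = 1}
  have hT : Nat.card T = p * (p - 2) := by
    have hF := isClassFunction_irr (μ 1)
    have e := h.sum_nonsing hF
    have hP2 : ∑ y : h.P, (μ 1 : G → ℂ) y - (μ 1 : G → ℂ) 1 = 2 := by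
      rw [← Finset.add_sum_erase Finset.univ (fun y : h.P => (μ 1 : G → ℂ) y) (Finset.mem_univ 1),
        OneMemClass.coe_one, add_sub_cancel_left,
        Finset.sum_congr rfl fun y hy => (hμ 1 h10).2.2.2.1 y fun e' => (Finset.mem_erase.1 hy).1 (Subtype.ext e'),
        Finset.sum_neg_distrib, Finset.sum_erase_eq_sub (Finset.mem_univ 1), Finset.sum_add_distrib, map_one, map_one]
      have hsE : ∀ k : ZMod p, k ≠ 0 → ∑ y : h.P, h.E k y = 0 := fun k hk => by
        have e := h.classInner_E k 0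
        rw [classInner_def, if_neg hk, h.card_P, mul_eq_zero] at e
        have hp0 : (p : ℂ)⁻¹ ≠ 0 := inv_ne_zero (by exact_mod_cast hp.ne_zero)
        rw [← e.resolve_left hp0]
        exact Finset.sum_congr rfl fun y _ => by rw [E_zero, map_one, mul_one]
      rw [hsE _ h10, hsE _ (neg_ne_zero.2 h10)]
      norm_num
    have hG0 : ∑ g : G, (μ 1 : G → ℂ) g = 0 := by
      have := classInner_irr_ne (hμ 1 h10).1
      rw [classInner_def, mul_eq_zero] at this
      rw [← this.resolve_left (inv_ne_zero (by exact_mod_cast Nat.card_pos.ne'))]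
      exact Finset.sum_congr rfl fun g _ => by simp [principal]
    rw [hG0, hP2] at e
    have hmain : ∑ g ∈ Finset.univ.filter (fun g => ¬h.Sing g), (μ 1 : G → ℂ) g =
        ((p - 2 : ℕ) : ℂ) - (Nat.card T : ℂ) := by
      rw [← Finset.add_sum_erase _ _ (Finset.mem_filter.2 ⟨Finset.mem_univ (1 : G), hns1⟩), (hμ 1 h10).2.1,
        sub_eq_add_neg]
      congr 1
      rw [Nat.card_eq_fintype_card, Fintype.card_subtype, Finset.natCast_card_filter, ← Finset.sum_neg_distrib]
      rw [← Finset.sum_subset (s₁ := (Finset.univ.filter (fun g => ¬h.Sing g)).erase 1) (Finset.subset_univ _)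
        (fun g _ hg => by
          rw [if_neg, neg_zero]
          rintro ⟨h1, h2⟩
          exact hg (Finset.mem_erase.2 ⟨h1, Finset.mem_filter.2 ⟨Finset.mem_univ _, hns_sq g h2⟩⟩))]
      refine Finset.sum_congr rfl fun g hg => ?_
      obtain ⟨hg1, hgs⟩ := Finset.mem_erase.1 hg
      have hgs' := (Finset.mem_filter.1 hgs).2
      rw [(hμ 1 h10).2.2.1 g hgs']
      by_cases hgg : g * g = 1
      · rw [if_pos (show g ∈ T from ⟨hg1, hgg⟩), hinv g hg1 hgg]; norm_num
      · rw [if_neg (show g ∉ T from fun e' => hgg e'.2), (hval g hgs' hg1).resolve_right fun e' => hgg (hinv' g hgs' e')]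
        norm_num
    rw [hmain, hord] at e
    apply Nat.cast_injective (R := ℂ)
    have hp0 : (p : ℂ) ≠ 0 := by exact_mod_cast hp.ne_zero
    push_cast [Nat.cast_sub (show 1 ≤ p by omega), Nat.cast_sub (show 2 ≤ p by omega)] at e ⊢
    field_simp at e
    linear_combination -e
  have : Fact (Nat.Prime 2) := ⟨Nat.prime_two⟩
  obtain ⟨S⟩ : Nonempty (Sylow 2 G) := inferInstance
  have hSpow : ∀ x ∈ (S : Subgroup G), x * x = 1 := fun x hx => by
    by_cases h1 : x = 1
    · rw [h1, one_mul]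
    obtain ⟨n, hn⟩ := S.isPGroup' ⟨x, hx⟩
    have hd : orderOf x ∣ 2 ^ n := orderOf_dvd_of_pow_eq_one (congrArg Subtype.val hn)
    obtain ⟨i, -, hi⟩ := (Nat.dvd_prime_pow Nat.prime_two).1 hd
    cases i with
    | zero => exact absurd (orderOf_eq_one_iff.1 (by simpa using hi)) h1
    | succ i => exact heven x (hi ▸ dvd_pow_self 2 i.succ_ne_zero)
  have hScomm : ∀ x ∈ (S : Subgroup G), ∀ y ∈ (S : Subgroup G), Commute x y := fun x hx y hy => by
    have h1 := hSpow x hx
    have h2 := hSpow y hy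
    have h3 := hSpow _ (mul_mem hx hy)
    show x * y = y * x
    calc x * y = (x * y)⁻¹ := (inv_eq_of_mul_eq_one_right h3).symm
      _ = y * x := by rw [mul_inv_rev, inv_eq_of_mul_eq_one_right h1, inv_eq_of_mul_eq_one_right h2]
  have hCs : ∀ s ∈ (S : Subgroup G), s ≠ 1 → Subgroup.centralizer {s} = (S : Subgroup G) := by
    intro s hs hs1
    have hss := hSpow s hs
    have hcx : ∀ x ∈ Subgroup.centralizer ({s} : Set G), x * x = 1 := fun x hx => by
      rw [Subgroup.mem_centralizer_singleton_iff] at hx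
      by_contra hxx
      have ho : ¬2 ∣ orderOf x := fun e => hxx (heven x e)
      have hos : orderOf s = 2 := orderOf_eq_prime (by rw [pow_two]; exact hss) hs1
      have hco : Nat.Coprime (orderOf x) (orderOf s) := by
        rw [hos]; exact (Nat.prime_two.coprime_iff_not_dvd.2 ho).symm
      have hox : orderOf (x * s) = orderOf x * orderOf s :=
        Commute.orderOf_mul_eq_mul_orderOf_of_coprime hx hco
      have h1 := heven (x * s) (by rw [hox, hos]; exact dvd_mul_left 2 _)
      apply hxx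
      calc x * x = x * x * (s * s) := by rw [hss, mul_one]
        _ = x * s * (x * s) := by
          have hx' : s * x = x * s := Eq.symm hx
          simp only [mul_assoc]
          rw [← mul_assoc s x s, hx', mul_assoc]
        _ = 1 := h1
    refine S.is_maximal' ?_ fun x hx => Subgroup.mem_centralizer_singleton_iff.2 (hScomm x hx s hs).eq
    exact fun x => ⟨1, Subtype.ext (by rw [pow_one, pow_two]; exact hcx x x.2)⟩
  have hScard_le : Nat.card (S : Subgroup G) ≤ p - 1 := by
    obtain ⟨n, hn⟩ := IsPGroup.iff_card.1 S.isPGroup'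
    have hd := Subgroup.card_subgroup_dvd_card (S : Subgroup G)
    rw [hn, hord, mul_right_comm] at hd
    have hodd : ¬2 ∣ p * (p - 2) := by rw [Nat.prime_two.dvd_mul]; omega
    have := ((Nat.prime_two.coprime_iff_not_dvd.2 hodd).pow_left n).dvd_of_dvd_mul_left hd
    rw [hn]
    exact Nat.le_of_dvd (by omega) this
  have h2G : 2 ∣ Nat.card G := by
    rw [hord]; exact dvd_mul_of_dvd_left (dvd_mul_of_dvd_right (by omega) p) _
  obtain ⟨⟨s, hsS⟩, hos⟩ := exists_prime_orderOf_dvd_card' (G := (S : Subgroup G)) 2 (S.dvd_card_of_dvd_card h2G)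
  replace hos : orderOf s = 2 := (Subgroup.orderOf_coe (⟨s, hsS⟩ : (S : Subgroup G))).trans hos
  have hs1 : s ≠ 1 := fun e => by rw [e, orderOf_one] at hos; omega
  have hsT : s ∈ T := ⟨hs1, hSpow s hsS⟩
  have hTbig : Nat.card (S : Subgroup G) < Nat.card T := by
    rw [hT]
    have : p * 1 ≤ p * (p - 2) := Nat.mul_le_mul_left p (by omega)
    omega
  obtain ⟨u, huT, huS⟩ : ∃ u ∈ T, u ∉ (S : Subgroup G) := by
    by_contra hc
    push Not at hc
    exact absurd (Nat.card_mono (Set.toFinite _) (fun x hx => hc x hx : T ⊆ ((S : Subgroup G) : Set G))) (not_le.2 hTbig)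
  have hconjS : ∀ x ∈ T, x ∉ (S : Subgroup G) → ∀ y ∈ (S : Subgroup G), y ≠ 1 → ∃ g : G, g * y * g⁻¹ = x := by
    intro x hx hxS y hy hy1
    refine exists_conj_of_odd (hSpow y hy) hx.2 ?_
    by_contra hev
    rw [Nat.not_odd_iff_even] at hev
    have h1 := heven (y * x) hev.two_dvd
    apply hxS
    rw [← hCs y hy hy1, Subgroup.mem_centralizer_singleton_iff]
    have hyi : y⁻¹ = y := inv_eq_of_mul_eq_one_right (hSpow y hy)
    have hxi : x⁻¹ = x := inv_eq_of_mul_eq_one_right hx.2
    calc x * y = (y * x)⁻¹ := by rw [mul_inv_rev, hxi, hyi]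
      _ = y * x := inv_eq_of_mul_eq_one_right h1
  have hconj : ∀ x ∈ T, ∃ g : G, g * s * g⁻¹ = x := by
    intro x hx
    by_cases hxS : x ∈ (S : Subgroup G)
    · obtain ⟨g₁, e₁⟩ := hconjS u huT huS s hsS hs1
      obtain ⟨g₂, e₂⟩ := hconjS u huT huS x hxS hx.1
      refine ⟨g₂⁻¹ * g₁, ?_⟩
      have : g₂⁻¹ * g₁ * s * (g₂⁻¹ * g₁)⁻¹ = g₂⁻¹ * (g₁ * s * g₁⁻¹) * g₂ := by group
      rw [this, e₁, ← e₂]; group
    · exact hconjS x hx hxS s hsS hs1
  have hconjT : ∀ g : G, g * s * g⁻¹ ∈ T := fun g => by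
    refine ⟨fun e => hs1 ((conj_eq_one_iff).1 e), ?_⟩
    rw [show g * s * g⁻¹ * (g * s * g⁻¹) = g * (s * s) * g⁻¹ from by group, hSpow s hsS]; group
  have hScard : Nat.card (S : Subgroup G) = p - 1 := by
    have e := card_eq_class_mul ⊤ s T (fun g _ => hconjT g) (fun x hx => (hconj x hx).imp fun g e => ⟨trivial, e⟩)
    rw [top_inf_eq, hCs s hsS hs1, Subgroup.card_top, hord, hT, mul_right_comm] at e
    exact (Nat.eq_of_mul_eq_mul_left (Nat.mul_pos hp.pos (by omega)) e).symm
  set N := Subgroup.normalizer ((S : Subgroup G) : Set G) with hN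
  have hNcard : Nat.card N = (p - 2) * (p - 1) := by
    have e := card_eq_class_mul N s (((S : Subgroup G) : Set G) \ {1})
      (fun g hg => ⟨(Subgroup.mem_normalizer_iff.1 hg s).1 hsS, fun e => hs1 (conj_eq_one_iff.1 e)⟩)
      (fun x hx => by
        obtain ⟨g, e⟩ := hconj x ⟨hx.2, hSpow x hx.1⟩
        refine ⟨g, ?_, e⟩
        refine Subgroup.mem_normalizer_iff.2 fun y => ?_
        rw [show (y ∈ (S : Subgroup G)) ↔ y ∈ Subgroup.centralizer {s} by rw [hCs s hsS hs1],
          show (g * y * g⁻¹ ∈ (S : Subgroup G)) ↔ g * y * g⁻¹ ∈ Subgroup.centralizer {x} by rw [hCs x hx.1 hx.2],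
          Subgroup.mem_centralizer_singleton_iff, Subgroup.mem_centralizer_singleton_iff, ← e]
        constructor
        · intro hy
          calc g * y * g⁻¹ * (g * s * g⁻¹) = g * (y * s) * g⁻¹ := by group
            _ = g * (s * y) * g⁻¹ := by rw [hy]
            _ = _ := by group
        · intro hy
          have h2 : g * (y * s) * g⁻¹ = g * (s * y) * g⁻¹ := by
            calc g * (y * s) * g⁻¹ = g * y * g⁻¹ * (g * s * g⁻¹) := by group
              _ = g * s * g⁻¹ * (g * y * g⁻¹) := hy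
              _ = _ := by group
          exact mul_left_cancel (mul_right_cancel h2))
    rw [inf_eq_right.2 (by rw [hCs s hsS hs1]; exact Subgroup.le_normalizer), hCs s hsS hs1, hScard] at e
    rw [e]
    congr 1
    have hd : Nat.card (((S : Subgroup G) : Set G) \ {1} : Set G) + 1 = p - 1 := by
      rw [← hScard, Nat.card_coe_set_eq]
      exact (Set.ncard_sdiff_singleton_add_one (S : Subgroup G).one_mem (Set.toFinite _)).trans
        (Nat.card_coe_set_eq _).symm
    omega
  have hNidx : N.index = p := by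
    have e := N.card_mul_index
    rw [hNcard, hord, show p * (p - 1) * (p - 2) = (p - 2) * (p - 1) * p by ring] at e
    exact Nat.eq_of_mul_eq_mul_left (Nat.mul_pos (by omega) (by omega)) e
  have hcore : N.normalCore = ⊥ := hmin _ inferInstance fun ht => by
    have h1 := orderOf_dvd_natCard (⟨h.t, Subgroup.normalCore_le N ht⟩ : N)
    rw [← Subgroup.orderOf_coe, h.order, hNcard, hp.dvd_mul] at h1
    rcases h1 with h1 | h1 <;> have := Nat.le_of_dvd (by omega) h1 <;> omega
  have : Fintype (G ⧸ N) := Fintype.ofFinite _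
  have hcardα : Fintype.card (G ⧸ N) = p := by
    rw [← Nat.card_eq_fintype_card, ← Subgroup.index_eq_card, hNidx]
  have hinjρ : Function.Injective (MulAction.toPermHom G (G ⧸ N)) := by
    rw [← MonoidHom.ker_eq_bot_iff, ← Subgroup.normalCore_eq_ker, hcore]
  let e : G ≃* (MulAction.toPermHom G (G ⧸ N)).range := MonoidHom.ofInjective hinjρ
  have hfac : (Nat.card G).factorization p = 1 := by
    rw [hord, mul_assoc, Nat.factorization_mul hp.ne_zero (Nat.mul_pos (by omega) (by omega)).ne',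
      Finsupp.add_apply, hp.factorization_self, Nat.factorization_eq_zero_of_not_dvd, add_zero]
    rw [hp.dvd_mul]
    rintro (h1 | h1) <;> have := Nat.le_of_dvd (by omega) h1 <;> omega
  have hQ : Nat.card (h.P.map e.toMonoidHom) = p ^ (Nat.card (MulAction.toPermHom G (G ⧸ N)).range).factorization p := by
    rw [← Nat.card_congr e.toEquiv, hfac, pow_one,
      ← Nat.card_congr (Subgroup.equivMapOfInjective h.P e.toMonoidHom e.injective).toEquiv, h.card_P]
  let Q := Sylow.ofCard _ hQ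
  have hQN : Nat.card (Subgroup.normalizer ((Q : Subgroup (MulAction.toPermHom G (G ⧸ N)).range) :
      Set (MulAction.toPermHom G (G ⧸ N)).range)) = 2 * p := by
    show Nat.card (Subgroup.normalizer ((h.P.map e.toMonoidHom : Subgroup (MulAction.toPermHom G (G ⧸ N)).range) :
      Set (MulAction.toPermHom G (G ⧸ N)).range)) = 2 * p
    rw [← Subgroup.map_equiv_normalizer_eq,
      ← Nat.card_congr (Subgroup.equivMapOfInjective _ e.toMonoidHom e.injective).toEquiv]
    exact h.normCard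
  rcases Cfsg.Agent.S4706.result (by omega) hcardα _ Q hQN with hn | ⟨a, F, iF, iFF, ha, hF, ⟨f⟩⟩
  · exfalso
    have e1 : Subgroup.normalizer ((Q : Subgroup (MulAction.toPermHom G (G ⧸ N)).range) :
        Set (MulAction.toPermHom G (G ⧸ N)).range) = ⊤ := Subgroup.normalizer_eq_top_iff.2 hn
    rw [e1, Subgroup.card_top, ← Nat.card_congr e.toEquiv, hord] at hQN
    have : 4 * p ≤ p * (p - 1) * (p - 2) := by
      calc 4 * p = p * 4 * 1 := by ring
        _ ≤ _ := Nat.mul_le_mul (Nat.mul_le_mul_left p (by omega)) (by omega)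
    omega
  · exact ⟨a, F, iF, iFF, ha, hF, ⟨e.trans f⟩⟩

end Setting

end Cfsg.Lib.PermGroups.PrimeExceptional
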