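import Cfsg.Agent.PermGroups.PrimeExceptional.Core

/-!
# Coherence of the exceptional characters when `|N(P)| = 2 p`
-/

set_option autoImplicit false
set_option linter.unusedSectionVars false

namespace Cfsg.Lib.PermGroups.PrimeExceptional

open Cfsg.Lib.Chars
open scoped ComplexConjugate Classical

universe u v

variable {G : Type u} [Group G] [Fintype G]

/-- A signed sum of two distinct irreducible characters. -/
structure IsForm (f : G → ℂ) (e : ℤ) (a : Cfsg.IrrCharacter G) (d : ℤ) (b : Cfsg.IrrCharacter G) : Prop where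
  he : e = 1 ∨ e = -1
  hd : d = 1 ∨ d = -1
  hne : a ≠ b
  eq : f = (e : ℂ) • (a : G → ℂ) + (d : ℂ) • (b : G → ℂ)

theorem IsForm.swap {f : G → ℂ} {e d : ℤ} {a b : Cfsg.IrrCharacter G} (h : IsForm f e a d b) :
    IsForm f d b e a :=
  ⟨h.hd, h.he, h.hne.symm, by rw [h.eq, add_comm]⟩

theorem IsForm.coeff {f : G → ℂ} {e d : ℤ} {a b : Cfsg.IrrCharacter G} (h : IsForm f e a d b)
    (c : Cfsg.IrrCharacter G) : Cfsg.classInner f (c : G → ℂ) =
      (((if a = c then e else 0) + (if b = c then d else 0) : ℤ) : ℂ) := by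
  rw [h.eq, classInner_add_left, classInner_smul_left, classInner_smul_left, classInner_irrCharacter,
    classInner_irrCharacter]
  push_cast
  simp [mul_ite]

theorem IsForm.inner {f f' : G → ℂ} {e d e' d' : ℤ} {a b a' b' : Cfsg.IrrCharacter G}
    (h : IsForm f e a d b) (h' : IsForm f' e' a' d' b') : Cfsg.classInner f f' =
      ((e' * ((if a = a' then e else 0) + (if b = a' then d else 0)) +
        d' * ((if a = b' then e else 0) + (if b = b' then d else 0)) : ℤ) : ℂ) := by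
  rw [h'.eq, classInner_add_right, classInner_smul_right, classInner_smul_right, h.coeff, h.coeff]
  simp only [Int.cast_add, Int.cast_mul, map_intCast]

/-- Two forms with inner product one share exactly one signed character. -/
theorem IsForm.meet {f f' : G → ℂ} {e d e' d' : ℤ} {a b a' b' : Cfsg.IrrCharacter G}
    (h : IsForm f e a d b) (h' : IsForm f' e' a' d' b') (h1 : Cfsg.classInner f f' = 1) :
    (∃ d'' c, IsForm f' e a d'' c ∧ b ≠ c) ∨ (∃ d'' c, IsForm f' d b d'' c ∧ a ≠ c) := by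
  rw [h.inner h'] at h1
  have h2 : e' * ((if a = a' then e else 0) + (if b = a' then d else 0)) +
        d' * ((if a = b' then e else 0) + (if b = b' then d else 0)) = 1 := by exact_mod_cast h1
  have hab := h.hne
  have hab' := h'.hne
  have he := h.he
  have hd := h.hd
  have he' := h'.he
  have hd' := h'.hd
  by_cases c1 : a = a'
  · have c3 : ¬a = b' := fun x => hab' (c1.symm.trans x)
    have c4 : ¬b = a' := fun x => hab (c1.trans x.symm)
    rw [if_pos c1, if_neg c3, if_neg c4] at h2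
    by_cases c2 : b = b'
    · rw [if_pos c2] at h2
      rcases he with rfl | rfl <;> rcases hd with rfl | rfl <;> rcases he' with rfl | rfl <;>
        rcases hd' with rfl | rfl <;> omega
    · rw [if_neg c2] at h2
      obtain rfl : e' = e := by rcases he with rfl | rfl <;> rcases he' with rfl | rfl <;> omega
      exact Or.inl ⟨d', b', c1 ▸ h', c2⟩
  by_cases c3 : a = b'
  · have c2 : ¬b = b' := fun x => hab (c3.trans x.symm)
    rw [if_neg c1, if_pos c3, if_neg c2] at h2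
    by_cases c4 : b = a'
    · rw [if_pos c4] at h2
      rcases he with rfl | rfl <;> rcases hd with rfl | rfl <;> rcases he' with rfl | rfl <;>
        rcases hd' with rfl | rfl <;> omega
    · rw [if_neg c4] at h2
      obtain rfl : d' = e := by rcases he with rfl | rfl <;> rcases hd' with rfl | rfl <;> omega
      exact Or.inl ⟨e', a', c3 ▸ h'.swap, c4⟩
  rw [if_neg c1, if_neg c3] at h2
  by_cases c4 : b = a'
  · have c2 : ¬b = b' := fun x => hab' (c4.symm.trans x)
    rw [if_pos c4, if_neg c2] at h2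
    obtain rfl : e' = d := by rcases hd with rfl | rfl <;> rcases he' with rfl | rfl <;> omega
    exact Or.inr ⟨d', b', c4 ▸ h', c3⟩
  rw [if_neg c4] at h2
  by_cases c2 : b = b'
  · rw [if_pos c2] at h2
    obtain rfl : d' = d := by rcases hd with rfl | rfl <;> rcases hd' with rfl | rfl <;> omega
    exact Or.inr ⟨e', a', c2 ▸ h'.swap, c1⟩
  · rw [if_neg c2] at h2
    omega

theorem exists_form {f : G → ℂ} (h : Cfsg.IsGeneralizedCharacter G f) (hn : Cfsg.classInner f f = 2) :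
    ∃ e a d b, IsForm f e a d b := by
  obtain ⟨c, rfl⟩ := exists_int_decomp h
  rw [classInner_self_decomp] at hn
  have h2 : ∑ χ, c χ * c χ = 2 := by
    apply Int.cast_injective (α := ℂ)
    simpa using hn
  obtain ⟨χ, -, hχ⟩ := Finset.exists_ne_zero_of_sum_ne_zero (h2.symm ▸ two_ne_zero)
  have hbound : ∀ ξ, c ξ * c ξ ≠ 0 → c ξ * c ξ = 1 := fun ξ hξ => by
    have hle : c ξ * c ξ ≤ 2 := h2 ▸ Finset.single_le_sum (f := fun ξ => c ξ * c ξ)
      (fun x _ => mul_self_nonneg _) (Finset.mem_univ ξ)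
    have hb1 : c ξ ≤ 1 := by nlinarith
    have hb2 : -1 ≤ c ξ := by nlinarith
    interval_cases (c ξ) <;> simp_all
  have hsum := Finset.add_sum_erase Finset.univ (fun χ => c χ * c χ) (Finset.mem_univ χ)
  rw [h2, hbound χ hχ] at hsum
  obtain ⟨ψ, hψm, hψ⟩ := Finset.exists_ne_zero_of_sum_ne_zero
    (show ∑ x ∈ Finset.univ.erase χ, c x * c x ≠ 0 by omega)
  have hne : ψ ≠ χ := (Finset.mem_erase.mp hψm).1
  have hrest : ∀ ξ, ξ ≠ χ → ξ ≠ ψ → c ξ = 0 := by
    intro ξ hξ1 hξ2
    have hsum2 := Finset.add_sum_erase (Finset.univ.erase χ) (fun χ => c χ * c χ) hψm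
    rw [hbound ψ hψ] at hsum2
    have h0 : ∑ x ∈ (Finset.univ.erase χ).erase ψ, c x * c x = 0 := by omega
    simpa using (Finset.sum_eq_zero_iff_of_nonneg fun x _ => mul_self_nonneg _).mp h0 ξ
      (by simp [hξ1, hξ2])
  refine ⟨c χ, χ, c ψ, ψ, mul_self_eq_one_iff.mp (hbound χ hχ), mul_self_eq_one_iff.mp (hbound ψ hψ),
    hne.symm, ?_⟩
  rw [← Finset.sum_pair (f := fun ξ : Cfsg.IrrCharacter G => (c ξ : ℂ) • (ξ : G → ℂ)) hne.symm]
  refine (Finset.sum_subset (Finset.subset_univ _) fun ξ _ hξ => ?_).symm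
  simp only [Finset.mem_insert, Finset.mem_singleton, not_or] at hξ
  simp [hrest ξ hξ.1 hξ.2]

namespace Setting

variable {p : ℕ} [Fact p.Prime] (h : Setting G p)

theorem E_injective {k : ZMod p} (hk : k ≠ 0) {y z : h.P} (e : h.E k y = h.E k z) : y = z :=
  h.coordEquiv.injective (Multiplicative.toAdd.injective
    (mul_left_cancel₀ hk (ZMod.injective_stdAddChar e)))

theorem sum_E_mul_conj (y z : h.P) :
    ∑ k : ZMod p, h.E k y * conj (h.E k z) = if y = z then (p : ℂ) else 0 := by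
  have e : ∀ k : ZMod p, h.E k y * conj (h.E k z) =
      ZMod.stdAddChar (k * ((h.coordEquiv y).toAdd - (h.coordEquiv z).toAdd)) := fun k => by
    rw [conj_E, E_apply, E_apply, ← AddChar.map_add_eq_mul]
    ring_nf
  rw [Finset.sum_congr rfl fun k _ => e k, AddChar.sum_mulShift _ (ZMod.isPrimitive_stdAddChar p), ZMod.card]
  by_cases hyz : y = z
  · rw [hyz, if_pos (sub_self _), if_pos rfl]
  · rw [if_neg hyz, if_neg fun e => hyz (h.coordEquiv.injective (Multiplicative.toAdd.injective (sub_eq_zero.1 e))),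
      Nat.cast_zero]

theorem expand (f : h.P → ℂ) (y : h.P) :
    f y = ∑ k : ZMod p, Cfsg.classInner f ⇑(h.E k) * h.E k y := by
  simp only [classInner_def, h.card_P, mul_assoc, Finset.sum_mul, ← Finset.mul_sum]
  rw [Finset.sum_comm]
  have e : ∀ z : h.P, ∑ k : ZMod p, f z * (conj (h.E k z) * h.E k y) = f z * if y = z then (p : ℂ) else 0 :=
    fun z => by
      rw [← Finset.mul_sum, ← h.sum_E_mul_conj y z]
      congr 1
      exact Finset.sum_congr rfl fun k _ => mul_comm _ _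
  simp only [e, mul_ite, mul_zero, Finset.sum_ite_eq, Finset.mem_univ, if_true]
  have : (p : ℂ) ≠ 0 := by exact_mod_cast (Fact.out : p.Prime).ne_zero
  field_simp

theorem sum_E (y : h.P) : ∑ k : ZMod p, h.E k y = if y = 1 then (p : ℂ) else 0 := by
  rw [← h.sum_E_mul_conj y 1]
  simp

/-- The restriction to `P` of a class function, from its products with the induced characters. -/
theorem restrict_eq {f : G → ℂ} (hf : Cfsg.IsClassFunction G f) (c : ZMod p → ℂ) (hc0 : c 0 = 0)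
    (hc : ∀ l, l ≠ 0 → Cfsg.classInner f (h.I l) = c l) (y : h.P) :
    f y = (if y = 1 then (p : ℂ) * Cfsg.classInner (fun y : h.P => f y) (⇑(h.E 0)) else 0) -
      ∑ k : ZMod p, c k * h.E k y := by
  have hk : ∀ k, Cfsg.classInner (fun y : h.P => f y) ⇑(h.E k) =
      Cfsg.classInner (fun y : h.P => f y) ⇑(h.E 0) - c k := fun k => by
    by_cases h0 : k = 0
    · rw [h0, hc0, sub_zero]
    · rw [← hc k h0, I, frobenius_reciprocity' _ _ hf, θ, classInner_sub_right, sub_sub_cancel]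
  rw [h.expand (fun y : h.P => f y) y]
  rw [Finset.sum_congr rfl fun k _ => congrArg (· * h.E k y) (hk k)]
  rw [Finset.sum_congr rfl fun k _ => sub_mul _ _ (h.E k y), Finset.sum_sub_distrib, ← Finset.mul_sum,
    h.sum_E y, mul_ite, mul_zero]
  split_ifs <;> ring

theorem classInner_I_I {k l : ZMod p} (hk : k ≠ 0) (hl : l ≠ 0) (h1 : k ≠ l) (h2 : k ≠ -l) :
    Cfsg.classInner (h.I k) (h.I l) = 2 := by
  conv_lhs => arg 1; rw [I]
  rw [frobenius_reciprocity _ _ (χ := h.I l) (isClassFunction_indFun _ _), h.I_restrict]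
  simp only [θ, classInner_sub_left, classInner_add_right, classInner_sub_right, classInner_E]
  have h0 : (0 : ZMod p) ≠ -l := fun e => hl (neg_eq_zero.1 e.symm)
  simp [hk, Ne.symm hl, h0, h1, h2]
  norm_num

/-- The part of the induced character orthogonal to the principal character. -/
noncomputable def A (k : ZMod p) : G → ℂ := h.I k - fun _ => (1 : ℂ)

theorem isGeneralized_A (k : ZMod p) : Cfsg.IsGeneralizedCharacter G (h.A k) :=
  IsGeneralizedCharacter.sub (IsGeneralizedCharacter.indFun (h.isGeneralized_θ k))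
    (IsCharacter.isGeneralized isCharacter_one)

theorem A_one (k : ZMod p) : h.A k 1 = -1 := by
  simp [A, I, indFun_one, θ_one]

theorem classInner_A_one {k : ZMod p} (hk : k ≠ 0) : Cfsg.classInner (h.A k) (fun _ => 1) = 0 := by
  rw [A, classInner_sub_left, h.classInner_I_one hk, classInner_self_irr isIrrCharacter_one, sub_self]

theorem classInner_A_A {k l : ZMod p} (hk : k ≠ 0) (hl : l ≠ 0) :
    Cfsg.classInner (h.A k) (h.A l) = Cfsg.classInner (h.I k) (h.I l) - 1 := by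
  have h1l : Cfsg.classInner (fun _ : G => (1 : ℂ)) (h.I l) = 1 := by
    rw [← classInner_conj_symm, h.classInner_I_one hl, map_one]
  rw [A, A, classInner_sub_left, classInner_sub_right, classInner_sub_right, h.classInner_I_one hk,
    h1l, classInner_self_irr isIrrCharacter_one]
  ring

theorem classInner_A_self {k : ZMod p} (hk : k ≠ 0) : Cfsg.classInner (h.A k) (h.A k) = 2 := by
  rw [h.classInner_A_A hk hk, h.classInner_I_self hk]; norm_num

theorem classInner_A_ne {k l : ZMod p} (hk : k ≠ 0) (hl : l ≠ 0) (h1 : k ≠ l) (h2 : k ≠ -l) :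
    Cfsg.classInner (h.A k) (h.A l) = 1 := by
  rw [h.classInner_A_A hk hl, h.classInner_I_I hk hl h1 h2]; norm_num

theorem A_neg (k : ZMod p) : h.A (-k) = h.A k := by
  have e : h.I (-k) = h.I k := by
    funext g
    by_cases hg : h.Sing g
    · obtain ⟨hg1, x, hx⟩ := hg
      have e1 := isClassFunction_indFun h.P (h.θ k) g x⁻¹
      have e2 := isClassFunction_indFun h.P (h.θ (-k)) g x⁻¹
      rw [inv_inv] at e1 e2
      rw [I, I, ← e1, ← e2]
      have e3 := congrFun (h.I_restrict k) ⟨_, hx⟩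
      have e4 := congrFun (h.I_restrict (-k)) ⟨_, hx⟩
      rw [neg_neg] at e4
      simp only [I, Pi.add_apply] at e3 e4
      rw [e3, e4, add_comm]
    · rw [I, I, h.indFun_nonsing _ (h.θ_one _) hg, h.indFun_nonsing _ (h.θ_one _) hg]
  rw [A, A, e]

/-- Coherence. -/
theorem exists_coherent (hp3 : 3 < p) :
    ∃ (ε δ : ℤ) (θ : Cfsg.IrrCharacter G) (μ : ZMod p → Cfsg.IrrCharacter G),
      (ε = 1 ∨ ε = -1) ∧ (δ = 1 ∨ δ = -1) ∧ θ ≠ principal G ∧
      (∀ l, l ≠ 0 → μ l ≠ θ ∧ μ l ≠ principal G ∧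
        h.I l = (fun _ => (1 : ℂ)) + (ε : ℂ) • (θ : G → ℂ) + (δ : ℂ) • (μ l : G → ℂ)) ∧
      (∀ k l, k ≠ 0 → l ≠ 0 → μ k = μ l → k = l ∨ k = -l) := by
  have hform : ∀ k : ZMod p, k ≠ 0 → ∃ e a d b, IsForm (h.A k) e a d b := fun k hk =>
    exists_form (h.isGeneralized_A k) (h.classInner_A_self hk)
  have h10 : (1 : ZMod p) ≠ 0 := one_ne_zero
  have hne : ∀ n : ℕ, 0 < n → n < p → (n : ZMod p) ≠ 0 := fun n h0 hlt e => by
    rw [ZMod.natCast_eq_zero_iff] at e
    exact absurd (Nat.le_of_dvd h0 e) (by omega)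
  have h20 : (2 : ZMod p) ≠ 0 := by exact_mod_cast hne 2 two_pos (by omega)
  have h30 : (3 : ZMod p) ≠ 0 := by exact_mod_cast hne 3 (by omega) hp3
  have h12 : (1 : ZMod p) ≠ 2 := fun e => h10 (by linear_combination -e)
  have h12' : (1 : ZMod p) ≠ -2 := fun e => h30 (by linear_combination e)
  obtain ⟨e₁, a₁, d₁, b₁, hA1⟩ := hform 1 h10
  obtain ⟨e₂, a₂, d₂, b₂, hA2⟩ := hform 2 h20
  obtain ⟨ε, θ, d₁, χ₁, d₂, χ₂, hA1, hA2, hχ12⟩ : ∃ ε θ d₁ χ₁ d₂ χ₂,
      IsForm (h.A 1) ε θ d₁ χ₁ ∧ IsForm (h.A 2) ε θ d₂ χ₂ ∧ χ₁ ≠ χ₂ := by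
    rcases hA1.meet hA2 (h.classInner_A_ne h10 h20 h12 h12') with ⟨d, c, hc, hn⟩ | ⟨d, c, hc, hn⟩
    · exact ⟨_, _, _, _, _, _, hA1, hc, hn⟩
    · exact ⟨_, _, _, _, _, _, hA1.swap, hc, hn⟩
  have hall : ∀ k : ZMod p, k ≠ 0 → ∃ d c, IsForm (h.A k) ε θ d c := by
    intro k hk
    by_cases hk1 : k = 1 ∨ k = -1
    · rcases hk1 with rfl | rfl
      · exact ⟨_, _, hA1⟩
      · rw [A_neg]; exact ⟨_, _, hA1⟩
    by_cases hk2 : k = 2 ∨ k = -2
    · rcases hk2 with rfl | rfl
      · exact ⟨_, _, hA2⟩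
      · rw [A_neg]; exact ⟨_, _, hA2⟩
    push Not at hk1 hk2
    obtain ⟨e, a, d, b, hk'⟩ := hform k hk
    rcases hA1.meet hk' (h.classInner_A_ne h10 hk (Ne.symm hk1.1) (fun e => hk1.2 (by rw [e, neg_neg]))) with
      ⟨d', c, hc, -⟩ | ⟨d', c, hc, hθc⟩
    · exact ⟨_, _, hc⟩
    rcases hA2.meet hc (h.classInner_A_ne h20 hk (Ne.symm hk2.1) (fun e => hk2.2 (by rw [e, neg_neg]))) with
      ⟨d'', c', hc', -⟩ | ⟨d'', c', hc', -⟩
    · exact ⟨_, _, hc'⟩
    exfalso
    have hco := hc'.coeff χ₂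
    rw [hc.coeff χ₂, if_pos rfl, if_neg hc'.hne.symm, if_neg hχ12] at hco
    have hc2 : c = χ₂ ∧ d' = d₂ := by
      by_cases hcc : c = χ₂
      · refine ⟨hcc, ?_⟩
        rw [if_pos hcc] at hco
        have : (0 : ℤ) + d' = d₂ + 0 := by exact_mod_cast hco
        omega
      · rw [if_neg hcc] at hco
        have : (0 : ℤ) + 0 = d₂ + 0 := by exact_mod_cast hco
        rcases hA2.hd with h' | h' <;> omega
    obtain ⟨rfl, rfl⟩ := hc2
    have z1 := congrFun hA1.eq 1
    have z2 := congrFun hA2.eq 1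
    have z3 := congrFun hc.eq 1
    simp only [A_one, Pi.add_apply, Pi.smul_apply, smul_eq_mul, irr_apply_one_eq_deg] at z1 z2 z3
    have w1 : (-1 : ℤ) = ε * deg (θ : G → ℂ) + d₁ * deg (χ₁ : G → ℂ) := by exact_mod_cast z1
    have w2 : (-1 : ℤ) = ε * deg (θ : G → ℂ) + d' * deg (c : G → ℂ) := by exact_mod_cast z2
    have w3 : (-1 : ℤ) = d₁ * deg (χ₁ : G → ℂ) + d' * deg (c : G → ℂ) := by exact_mod_cast z3
    omega
  have hall' : ∀ k : ZMod p, ∃ d c, k ≠ 0 → IsForm (h.A k) ε θ d c := fun k => by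
    by_cases hk : k = 0
    · exact ⟨1, θ, fun e => absurd hk e⟩
    · obtain ⟨d, c, hdc⟩ := hall k hk; exact ⟨d, c, fun _ => hdc⟩
  choose dd μ hμ using hall'
  have hprin : ∀ (e d : ℤ) (a b : Cfsg.IrrCharacter G) (k : ZMod p), k ≠ 0 → IsForm (h.A k) e a d b →
      a ≠ principal G := by
    intro e d a b k hk hF ea
    have := hF.coeff (principal G)
    rw [if_pos ea, if_neg (fun eb => hF.hne (ea.trans eb.symm)),
      show ((principal G : Cfsg.IrrCharacter G) : G → ℂ) = fun _ => (1 : ℂ) from rfl,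
      h.classInner_A_one hk] at this
    have h0 : (0 : ℤ) = e + 0 := by exact_mod_cast this
    rcases hF.he with h' | h' <;> omega
  have hinj : ∀ k l, k ≠ 0 → l ≠ 0 → μ k = μ l → k = l ∨ k = -l := by
    intro k l hk hl e
    by_contra hc
    push Not at hc
    have h1 := h.classInner_A_ne hk hl hc.1 hc.2
    rw [(hμ k hk).inner (hμ l hl), if_pos rfl, if_pos e, if_neg (e ▸ (hμ k hk).hne.symm : μ k ≠ θ),
      if_neg (hμ l hl).hne] at h1
    have h2 : ε * (ε + 0) + dd l * (0 + dd k) = 1 := by exact_mod_cast h1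
    rcases (hμ k hk).he with h' | h' <;> rcases (hμ k hk).hd with h'' | h'' <;>
      rcases (hμ l hl).hd with h''' | h''' <;> rw [h', h'', h'''] at h2 <;> omega
  have hsign : ∀ k l, k ≠ 0 → l ≠ 0 → dd k = dd l := by
    intro k l hk hl
    have z1 := congrFun (hμ k hk).eq 1
    have z2 := congrFun (hμ l hl).eq 1
    simp only [A_one, Pi.add_apply, Pi.smul_apply, smul_eq_mul, irr_apply_one_eq_deg] at z1 z2
    have w1 : (-1 : ℤ) = ε * deg (θ : G → ℂ) + dd k * deg (μ k : G → ℂ) := by exact_mod_cast z1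
    have w2 : (-1 : ℤ) = ε * deg (θ : G → ℂ) + dd l * deg (μ l : G → ℂ) := by exact_mod_cast z2
    have p1 : (0 : ℤ) < deg (μ k : G → ℂ) := by exact_mod_cast deg_irr_pos _
    have p2 : (0 : ℤ) < deg (μ l : G → ℂ) := by exact_mod_cast deg_irr_pos _
    rcases (hμ k hk).hd with h'' | h'' <;> rcases (hμ l hl).hd with h''' | h''' <;>
      rw [h'', h'''] <;> rw [h''] at w1 <;> rw [h'''] at w2 <;> omega
  refine ⟨ε, dd 1, θ, μ, hA1.he, (hμ 1 h10).hd, hprin _ _ _ _ 1 h10 hA1, fun l hl => ?_, hinj⟩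
  refine ⟨(hμ l hl).hne.symm, hprin _ _ _ _ l hl (hμ l hl).swap, ?_⟩
  rw [hsign 1 l h10 hl]
  have := (hμ l hl).eq
  rw [A, sub_eq_iff_eq_add] at this
  rw [this]
  abel

end Setting

end Cfsg.Lib.PermGroups.PrimeExceptional
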